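import Groth.Agent.H06Gon.Upper

/-!
# Descending a diagram to finitely many parameters
-/

set_option autoImplicit false
set_option linter.style.haveILetI false
set_option linter.unusedSectionVars false
set_option maxHeartbeats 1000000
universe u

open W4c3irrattreebun

namespace Groth.Agent.H06Gon

/-- A diagram with `r` parameters independent over `K`. -/
def Sys (k K : Type u) [Field k] [Field K] [Algebra k K] (r e : ℕ) : Prop :=
  ∃ (M : Type u) (_ : Field M) (_ : Algebra K M) (_ : Algebra k M) (_ : IsScalarTower k K M)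
    (T : Fin r → M) (B : IntermediateField k M) (t : M),
    AlgebraicIndependent K T ∧ Module.Finite (IntermediateField.adjoin K (Set.range T)) M ∧
    Set.range T ⊆ B ∧ Transcendental B t ∧
    Module.Finite (IntermediateField.adjoin B ({t} : Set M)) M ∧
    Module.finrank (IntermediateField.adjoin B ({t} : Set M)) M ≤ e

/-- Algebraicity descends along an embedding which maps a subfield onto one. -/
theorem isAlgebraic_comap {k₁ M₁ k₂ M₂ : Type u} [Field k₁] [Field M₁] [Algebra k₁ M₁] [Field k₂] [Field M₂]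
    [Algebra k₂ M₂] (ι : M₁ →+* M₂) (F₁ : IntermediateField k₁ M₁) (F₂ : IntermediateField k₂ M₂)
    (h : ∀ x ∈ F₁, ι x ∈ F₂) (h' : ∀ y ∈ F₂, ∃ x ∈ F₁, ι x = y) {x : M₁} (hx : IsAlgebraic F₂ (ι x)) :
    IsAlgebraic F₁ x := by
  let j : F₁ →+* F₂ := (ι.comp F₁.val.toRingHom).codRestrict F₂ fun y => h y.1 y.2
  refine hx.of_ringHom_of_comp_eq (f := j) (g := ι) (fun y => ?_) ι.injective rfl
  obtain ⟨x, hx, hxy⟩ := h' y.1 y.2
  exact ⟨⟨x, hx⟩, Subtype.ext hxy⟩

variable {k K C : Type u} [Field k] [Field K] [Field C] [Algebra k K] [Algebra K C] [Algebra k C]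
  [IsScalarTower k K C] (B₀ : IntermediateField k C) (t : C) (ht : Transcendental B₀ t)
  (hfin : Module.Finite (IntermediateField.adjoin B₀ ({t} : Set C)) C)

include ht hfin in
/-- Only finitely many elements matter. -/
theorem exists_sub (hfg : (⊤ : IntermediateField k K).FG)
    (hS : ∀ S : Finset C, ∃ T : Finset C, (T : Set C) ⊆ B₀ ∧ AlgebraicIndepOn K id (T : Set C) ∧
      ∀ s ∈ S, IsAlgebraic (IntermediateField.adjoin K (T : Set C)) s) :
    (∃ r, Sys k K r (Module.finrank (IntermediateField.adjoin B₀ ({t} : Set C)) C)) ∧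
      (Algebra.IsSeparable K C → ∃ e' ≤ Module.finrank (IntermediateField.adjoin B₀ ({t} : Set C)) C,
        ∃ D : CovDiag.{u} k K e', Algebra.IsSeparable K D.KC) := by
  classical
  obtain ⟨Y, hY⟩ := hfg
  let F := IntermediateField.adjoin B₀ ({t} : Set C)
  let b := Module.finBasis F C
  let n := Module.finrank F C
  let coef : (Fin n × Fin n ⊕ (Y ⊕ PUnit.{u + 1})) → C := fun x => x.elim (fun ij => b ij.1 * b ij.2)
    (fun y => y.elim (fun y : Y => algebraMap K C (y : K)) (fun _ => 1))
  have hc : ∀ x i, ∃ P : Finset C, (P : Set C) ⊆ (B₀ : Set C) ∪ {t} ∧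
      ((b.repr (coef x) i : F) : C) ∈ IntermediateField.adjoin k (P : Set C) := by
    intro x i
    have h : ((b.repr (coef x) i : F) : C) ∈ IntermediateField.adjoin k ((B₀ : Set C) ∪ {t}) := by
      rw [← IntermediateField.restrictScalars_adjoin]
      exact (b.repr (coef x) i).2
    obtain ⟨P, hP, hPm⟩ := IntermediateField.exists_finset_of_mem_adjoin h
    exact ⟨P, hP, hPm⟩
  choose P hP hPm using hc
  let C0 : Finset C := ((Finset.univ : Finset (_ × Fin n)).biUnion fun xi => P xi.1 xi.2).filter fun c => c ∈ B₀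
  have hsub : ∀ x i, (P x i : Set C) ⊆ (C0 : Set C) ∪ {t} := fun x i c hc => by
    rcases hP x i hc with h | h
    · exact Or.inl (Finset.mem_filter.2 ⟨Finset.mem_biUnion.2 ⟨(x, i), Finset.mem_univ _, hc⟩, h⟩)
    · exact Or.inr h
  obtain ⟨T, hTB, hTi, hTalg⟩ := hS (C0 ∪ {t} ∪ Finset.univ.image b)
  let G : Set C := (T : Set C) ∪ ((C0 : Set C) ∪ {t} ∪ Set.range b)
  let M₀ : IntermediateField K C := IntermediateField.adjoin K G
  have hG : ∀ {c}, c ∈ G → c ∈ M₀ := fun hc => IntermediateField.subset_adjoin K G hc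
  let T' : Fin T.card → M₀ := fun i => ⟨(T.equivFin.symm i : C), hG (Or.inl (T.equivFin.symm i).2)⟩
  have hT' : Subtype.val '' Set.range T' = (T : Set C) := by
    ext c
    constructor
    · rintro ⟨_, ⟨i, rfl⟩, rfl⟩
      exact (T.equivFin.symm i).2
    · exact fun hc => ⟨T' (T.equivFin ⟨c, hc⟩), ⟨_, rfl⟩, by simp [T']⟩
  let S₀ : Set M₀ := {m | (m : C) ∈ G}
  have hS₀fin : S₀.Finite := by
    have : G.Finite := (T.finite_toSet).union (((C0.finite_toSet).union (Set.finite_singleton t)).union (Set.finite_range b))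
    exact this.preimage Subtype.val_injective.injOn
  have hgenK : ∀ m : M₀, m ∈ IntermediateField.adjoin K S₀ := by
    intro m
    have hm : (m : C) ∈ (IntermediateField.adjoin K S₀).map M₀.val :=
      (IntermediateField.adjoin_le_iff.2 (show G ⊆ ((IntermediateField.adjoin K S₀).map M₀.val : IntermediateField K C) from
        fun c hc => ⟨⟨c, hG hc⟩, IntermediateField.subset_adjoin K _ (show (⟨c, hG hc⟩ : M₀) ∈ S₀ from hc), rfl⟩)) m.2
    obtain ⟨z, hz, hzm⟩ := hm
    rwa [← Subtype.ext hzm]
  -- finiteness over the parameters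
  let KT := IntermediateField.adjoin K (Set.range T')
  have hKT : ∀ x ∈ KT, (x : C) ∈ IntermediateField.adjoin K (T : Set C) := by
    intro x hx
    refine map_mem_adjoin (k₁ := K) (M₁ := M₀) M₀.val.toRingHom (fun c => IntermediateField.algebraMap_mem _ c) ?_ x hx
    intro y hy
    exact IntermediateField.subset_adjoin K _ (hT' ▸ ⟨y, hy, rfl⟩)
  have hKT' : ∀ y ∈ IntermediateField.adjoin K (T : Set C), ∃ x ∈ KT, M₀.val.toRingHom x = y := by
    intro y hy
    rw [← hT'] at hy
    have h2 : y ∈ KT.map M₀.val := by rw [IntermediateField.adjoin_map]; exact hy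
    exact h2
  have hfinK : Module.Finite KT M₀ := by
    haveI : Finite S₀ := hS₀fin.to_subtype
    haveI := IntermediateField.finiteDimensional_adjoin (K := KT) (S := S₀) fun x hx => by
      refine (isAlgebraic_comap M₀.val.toRingHom KT _ hKT hKT' ?_).isIntegral
      rcases hx with hx | hx
      · exact isAlgebraic_algebraMap (⟨(x : C), IntermediateField.subset_adjoin K _ hx⟩ :
          IntermediateField.adjoin K (T : Set C))
      · refine hTalg _ ?_
        rcases hx with (hx | hx) | hx
        · exact Finset.mem_union_left _ (Finset.mem_union_left _ hx)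
        · exact Finset.mem_union_left _ (Finset.mem_union_right _ (Finset.mem_singleton.2 hx))
        · obtain ⟨i, hi⟩ := hx
          exact Finset.mem_union_right _ (Finset.mem_image.2 ⟨i, Finset.mem_univ i, hi⟩)
    have htop : IntermediateField.adjoin KT S₀ = ⊤ := eq_top_iff.2 fun m _ => mem_adjoin_top (hgenK m)
    rw [htop] at this
    exact Module.Finite.equiv (IntermediateField.topEquiv (F := KT) (E := M₀)).toLinearEquiv
  -- the subfield of the base
  let B : IntermediateField k M₀ := IntermediateField.adjoin k {m : M₀ | (m : C) ∈ (T : Set C) ∪ (C0 : Set C)}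
  have hB : ∀ x ∈ B, (x : C) ∈ B₀ := by
    refine map_mem_adjoin (k₁ := k) (M₁ := M₀) M₀.val.toRingHom (fun c => ?_) ?_
    · rw [IsScalarTower.algebraMap_apply k K M₀]
      show algebraMap K C (algebraMap k K c) ∈ B₀
      rw [← IsScalarTower.algebraMap_apply]
      exact B₀.algebraMap_mem c
    · rintro m (hm | hm)
      · exact hTB hm
      · exact (Finset.mem_filter.1 hm).2
  let t₀ : M₀ := ⟨t, hG (Or.inr (Or.inl (Or.inr rfl)))⟩
  have htr : Transcendental B t₀ := fun h =>
    ht (isAlgebraic_map M₀.val.toRingHom B B₀ hB h)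
  let F₁ := IntermediateField.adjoin B ({t₀} : Set M₀)
  let b₀ : Fin n → M₀ := fun i => ⟨b i, hG (Or.inr (Or.inr ⟨i, rfl⟩))⟩
  have hPF : ∀ c, c ∈ (C0 : Set C) ∪ {t} → ∃ m ∈ F₁, (m : C) = c := by
    rintro c (hc | hc)
    · exact ⟨⟨c, hG (Or.inr (Or.inl (Or.inl hc)))⟩,
        F₁.algebraMap_mem (⟨_, IntermediateField.subset_adjoin k _ (Or.inr hc)⟩ : B), rfl⟩
    · exact ⟨t₀, IntermediateField.subset_adjoin B _ rfl, hc.symm⟩
  have hcoef : ∀ x i, ∃ m ∈ F₁, (m : C) = ((b.repr (coef x) i : F) : C) := by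
    intro x i
    have h : ((b.repr (coef x) i : F) : C) ∈ (F₁.restrictScalars k).map (M₀.val.restrictScalars k) := by
      refine (IntermediateField.adjoin_le_iff.2 fun c hc => ?_) (hPm x i)
      obtain ⟨m, hm, hmc⟩ := hPF c (hsub x i hc)
      exact ⟨m, hm, hmc⟩
    exact h
  choose cm hcm hcm' using hcoef
  have hspan : ∀ x (m : M₀), (m : C) = coef x → m ∈ Submodule.span F₁ (Set.range b₀) := by
    intro x m hm
    have : m = ∑ i, (⟨cm x i, hcm x i⟩ : F₁) • b₀ i := by
      apply Subtype.ext
      conv_lhs => rw [hm, ← b.sum_repr (coef x)]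
      rw [AddSubmonoidClass.coe_finsetSum]
      refine Finset.sum_congr rfl fun i _ => ?_
      rw [IntermediateField.smul_def, IntermediateField.smul_def, smul_eq_mul, smul_eq_mul, MulMemClass.coe_mul, hcm']
    rw [this]
    exact sum_mem fun i _ => Submodule.smul_mem _ _ (Submodule.subset_span ⟨i, rfl⟩)
  have hone := hspan (Sum.inr (Sum.inr PUnit.unit)) 1 rfl
  have hF₁span : ∀ m ∈ F₁, m ∈ Submodule.span F₁ (Set.range b₀) := fun m hm => by
    simpa [IntermediateField.smul_def] using Submodule.smul_mem _ (⟨m, hm⟩ : F₁) hone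
  let G₁ : Set M₀ := S₀ ∪ algebraMap K M₀ '' (Y : Set K)
  have hgen : ∀ m : M₀, m ∈ IntermediateField.adjoin F₁ G₁ := by
    intro m
    refine mem_adjoin_top (F := F₁) (mem_adjoin_top (F := B) ?_)
    have hK : ∀ c : K, algebraMap K M₀ c ∈ IntermediateField.adjoin k G₁ := fun c =>
      map_mem_adjoin (k₁ := k) (algebraMap K M₀)
        (fun a => by rw [← IsScalarTower.algebraMap_apply]; exact IntermediateField.algebraMap_mem _ a)
        (fun y hy => IntermediateField.subset_adjoin k _ (Or.inr ⟨y, hy, rfl⟩)) c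
        (by rw [hY]; exact IntermediateField.mem_top)
    have hm := hgenK m
    induction hm using IntermediateField.adjoin_induction with
    | mem x hx => exact IntermediateField.subset_adjoin k _ (Or.inl hx)
    | algebraMap c => exact hK c
    | add x y _ _ h1 h2 => exact add_mem h1 h2
    | inv x _ h => exact inv_mem h
    | mul x y _ _ h1 h2 => exact mul_mem h1 h2
  obtain ⟨hf, hle⟩ := finrank_le_of_span b₀ hone
    (fun i j => hspan (Sum.inl (i, j)) _ rfl) G₁ (by
      rintro m (hm | ⟨y, hy, rfl⟩)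
      · rcases hm with hm | ((hm | hm) | ⟨i, hi⟩)
        · exact hF₁span m (F₁.algebraMap_mem (⟨m, IntermediateField.subset_adjoin k _ (Or.inl hm)⟩ : B))
        · exact hF₁span m (F₁.algebraMap_mem (⟨m, IntermediateField.subset_adjoin k _ (Or.inr hm)⟩ : B))
        · exact hF₁span m (by rw [show m = t₀ from Subtype.ext hm]; exact IntermediateField.subset_adjoin B _ rfl)
        · exact Submodule.subset_span ⟨i, Subtype.ext hi⟩
      · exact hspan (Sum.inr (Sum.inl ⟨y, hy⟩)) _ rfl) hgen
  rw [Fintype.card_fin] at hle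
  refine ⟨⟨T.card, M₀, inferInstance, inferInstance, inferInstance, inferInstance, T', B, t₀, ?_, hfinK, ?_, htr, hf, hle⟩, ?_⟩
  · refine AlgebraicIndependent.of_comp M₀.val ?_
    exact hTi.comp (fun i => T.equivFin.symm i) T.equivFin.symm.injective
  · rintro _ ⟨i, rfl⟩
    exact IntermediateField.subset_adjoin k _ (Or.inl (T.equivFin.symm i).2)
  · intro hsep
    haveI : Finite (G : Set C) := ((T.finite_toSet).union
      (((C0.finite_toSet).union (Set.finite_singleton t)).union (Set.finite_range b))).to_subtype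
    haveI : Module.Finite K M₀ := IntermediateField.finiteDimensional_adjoin fun x _ =>
      (Algebra.IsSeparable.isSeparable K x).isIntegral
    obtain ⟨D, hD⟩ := exists_diag (k := k) (K := K) B t₀ htr hf
    exact ⟨_, hle, D, hD (Algebra.isSeparable_tower_bot_of_isSeparable K M₀ C)⟩

end Groth.Agent.H06Gon
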