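import Groth.Prelude.Def_W4c3irrattreebunCvg
import Mathlib.FieldTheory.IntermediateField.Adjoin.Basic
import Mathlib.LinearAlgebra.Dimension.Constructions
import Mathlib.RingTheory.Finiteness.Subalgebra

/-!
# Constructing covering diagrams
-/

set_option autoImplicit false
set_option linter.style.haveILetI false
universe u v

open W4c3irrattreebun

namespace Groth.Agent.H06Gon

/-- A family of elements with products in its span, whose span contains generators, spans. -/
theorem finrank_le_of_span {F M : Type u} [Field F] [Field M] [Algebra F M] {ι : Type v} [Fintype ι] (b : ι → M)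
    (one : (1 : M) ∈ Submodule.span F (Set.range b))
    (mul : ∀ i j, b i * b j ∈ Submodule.span F (Set.range b)) (G : Set M)
    (hG : G ⊆ Submodule.span F (Set.range b)) (hgen : ∀ x : M, x ∈ IntermediateField.adjoin F G) :
    Module.Finite F M ∧ Module.finrank F M ≤ Fintype.card ι := by
  let V := Submodule.span F (Set.range b)
  have hmul : ∀ x y, x ∈ V → y ∈ V → x * y ∈ V := by
    intro x y hx hy
    have h := Submodule.mul_mem_mul hx hy
    refine (Submodule.mul_le.2 fun m hm n hn => ?_ : V * V ≤ V) h
    induction hm using Submodule.span_induction with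
    | mem m hm =>
      induction hn using Submodule.span_induction with
      | mem n hn =>
        obtain ⟨i, rfl⟩ := hm
        obtain ⟨j, rfl⟩ := hn
        exact mul i j
      | zero => rw [mul_zero]; exact zero_mem _
      | add n n' _ _ h1 h2 => rw [mul_add]; exact add_mem h1 h2
      | smul c n _ h1 => rw [mul_smul_comm]; exact Submodule.smul_mem _ c h1
    | zero => rw [zero_mul]; exact zero_mem _
    | add m m' _ _ h1 h2 => rw [add_mul]; exact add_mem h1 h2
    | smul c m _ h1 => rw [smul_mul_assoc]; exact Submodule.smul_mem _ c h1
  let A : Subalgebra F M := V.toSubalgebra one hmul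
  haveI : Module.Finite F A := by
    have : Module.Finite F V := Module.Finite.span_of_finite F (Set.finite_range b)
    exact this
  have hfield : ∀ x ∈ A, x⁻¹ ∈ A := fun x hx => by
    rcases eq_or_ne x 0 with rfl | hx0
    · rw [inv_zero]; exact zero_mem _
    have halg : IsAlgebraic F x := ((Algebra.IsIntegral.isIntegral (⟨x, hx⟩ : A)).map A.val).isAlgebraic
    exact A.inv_mem_of_algebraic (x := ⟨x, hx⟩) halg
  have hle : IntermediateField.adjoin F G ≤ A.toIntermediateField hfield :=
    IntermediateField.adjoin_le_iff.2 hG
  have htop : V = ⊤ := eq_top_iff.2 fun x _ => hle (hgen x)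
  refine ⟨⟨?_⟩, ?_⟩
  · rw [← htop]; exact Submodule.fg_span (Set.finite_range b)
  · rw [← finrank_top F M, ← htop]
    exact finrank_range_le_card b

/-- Assemble a diagram. -/
theorem exists_diag {k K M : Type u} [Field k] [Field K] [Field M] [Algebra k K] [Algebra K M] [Algebra k M]
    [IsScalarTower k K M] [Module.Finite K M] (B : IntermediateField k M) (t : M) (ht : Transcendental B t)
    (hfin : Module.Finite (IntermediateField.adjoin B ({t} : Set M)) M) :
    ∃ D : CovDiag.{u} k K (Module.finrank (IntermediateField.adjoin B ({t} : Set M)) M),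
      Algebra.IsSeparable K M → Algebra.IsSeparable K D.KC :=
  ⟨{ KC := M, KB := B, t := t, transc := ht, finiteT := hfin, finrank_eq := rfl }, id⟩

end Groth.Agent.H06Gon
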