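import Groth.Agent.H06Gon.Descend

/-!
# Separable covering gonality under separable algebraic base change
-/

set_option autoImplicit false
set_option linter.style.haveILetI false
set_option linter.unusedSectionVars false
set_option maxHeartbeats 1000000
universe u

open TensorProduct W4c3irrattreebun

namespace Groth.Agent.H06Gon

/-- The base field of a diagram may be replaced by its image. -/
theorem range_base {k B C : Type u} [Field k] [Field B] [Field C] [Algebra k B] [Algebra B C] [Algebra k C]
    [IsScalarTower k B C] (t : C) (ht : Transcendental B t)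
    (hfin : Module.Finite (IntermediateField.adjoin B ({t} : Set C)) C) :
    ∃ B₀ : IntermediateField k C, (∀ x : B, algebraMap B C x ∈ B₀) ∧ Transcendental B₀ t ∧
      Module.Finite (IntermediateField.adjoin B₀ ({t} : Set C)) C ∧
      Module.finrank (IntermediateField.adjoin B₀ ({t} : Set C)) C =
        Module.finrank (IntermediateField.adjoin B ({t} : Set C)) C := by
  let B₀ := (IsScalarTower.toAlgHom k B C).fieldRange
  let i : B →+* B₀ := (algebraMap B C).codRestrict B₀ fun x => ⟨x, rfl⟩
  have hi : Function.Surjective i := by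
    rintro ⟨_, x, rfl⟩
    exact ⟨x, rfl⟩
  let F := IntermediateField.adjoin B ({t} : Set C)
  let F₀ := IntermediateField.adjoin B₀ ({t} : Set C)
  have heq : ∀ x, x ∈ F ↔ x ∈ F₀ := fun x => by
    show x ∈ F.toSubfield ↔ x ∈ F₀.toSubfield
    simp only [F, F₀, IntermediateField.adjoin_toSubfield]
    rw [show Set.range (algebraMap B₀ C) = Set.range (algebraMap B C) from by
      ext y
      constructor
      · rintro ⟨b, rfl⟩
        obtain ⟨x, rfl⟩ := hi b
        exact ⟨x, rfl⟩
      · rintro ⟨x, rfl⟩
        exact ⟨i x, rfl⟩]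
  let j : F ≃+* F₀ :=
    { toFun := fun x => ⟨x, (heq _).1 x.2⟩
      invFun := fun x => ⟨x, (heq _).2 x.2⟩
      left_inv := fun _ => rfl
      right_inv := fun _ => rfl
      map_mul' := fun _ _ => rfl
      map_add' := fun _ _ => rfl }
  have hcomp : (algebraMap F₀ C).comp j.toRingHom = (RingEquiv.refl C).toRingHom.comp (algebraMap F C) := rfl
  refine ⟨B₀, fun x => ⟨x, rfl⟩, fun h => ht ?_, ?_, ?_⟩
  · exact h.of_ringHom_of_comp_eq (f := i) (g := RingHom.id C) hi Function.injective_id rfl
  · haveI := hfin
    exact Module.Finite.of_equiv_equiv j (RingEquiv.refl C) hcomp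
  · exact (Algebra.finrank_eq_of_equiv_equiv j (RingEquiv.refl C) hcomp).symm

variable {k K L K' : Type u} [Field k] [Field K] [Field L] [Field K'] [Algebra k K] [Algebra k L]
  [Algebra (K ⊗[k] L) K'] [IsFractionRing (K ⊗[k] L) K'] [Algebra L K'] [Algebra K K'] [Algebra k K']
  [IsScalarTower k K K'] [IsScalarTower k L K']
  (hK : ∀ x : K, algebraMap K K' x = algebraMap (K ⊗[k] L) K' (x ⊗ₜ[k] (1 : L)))
  (hL : ∀ x : L, algebraMap L K' x = algebraMap (K ⊗[k] L) K' ((1 : K) ⊗ₜ[k] x))

include hK hL in
theorem isSeparable_compositum [Algebra.IsSeparable k L] : Algebra.IsSeparable K K' := by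
  constructor
  intro x
  have hx : x ∈ IntermediateField.adjoin K (Set.range (algebraMap L K')) := by
    refine map_mem_adjoin (k₁ := L) (RingHom.id K') (F₂ := IntermediateField.adjoin K (Set.range (algebraMap L K')))
      (fun y => IntermediateField.subset_adjoin K _ ⟨y, rfl⟩) ?_ x (generated hK hL x)
    rintro _ ⟨y, rfl⟩
    exact IntermediateField.algebraMap_mem _ y
  haveI : Algebra.IsSeparable K (IntermediateField.adjoin K (Set.range (algebraMap L K'))) :=
    (IntermediateField.isSeparable_adjoin_iff_isSeparable K K').2 (by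
      rintro _ ⟨y, rfl⟩
      have h := Polynomial.Separable.map (Algebra.IsSeparable.isSeparable k y) (f := algebraMap k K)
      refine h.of_dvd (minpoly.dvd _ _ ?_)
      rw [Polynomial.aeval_map_algebraMap, Polynomial.aeval_algebraMap_apply, minpoly.aeval, map_zero])
  exact mem_separableClosure_iff.1 (le_separableClosure K K' _ hx)

include hK hL in
theorem scvg_baseChange [Algebra.IsSeparable k L] (hfg : (⊤ : IntermediateField k K).FG) :
    scvg L K' = scvg k K := by
  classical
  obtain ⟨d, hd⟩ := exists_trdeg_eq_natCast hfg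
  have up : ∀ e, (∃ D : CovDiag.{u} k K e, Algebra.IsSeparable K D.KC) →
      ∃ e' ≤ e, ∃ D : CovDiag.{u} L K' e', Algebra.IsSeparable K' D.KC := fun e ⟨D, hD⟩ => by
    obtain ⟨e', he', D', hD'⟩ := base_change hK hL hd D
    exact ⟨e', he', D', hD' hD⟩
  have down : ∀ e, (∃ D : CovDiag.{u} L K' e, Algebra.IsSeparable K' D.KC) →
      ∃ e' ≤ e, ∃ D : CovDiag.{u} k K e', Algebra.IsSeparable K D.KC := fun e ⟨D, hD⟩ => by
    letI : Algebra K D.KC := ((algebraMap K' D.KC).comp (algebraMap K K')).toAlgebra
    haveI : IsScalarTower K K' D.KC := IsScalarTower.of_algebraMap_eq fun _ => rfl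
    letI : Algebra k D.KC := ((algebraMap K D.KC).comp (algebraMap k K)).toAlgebra
    haveI : IsScalarTower k K D.KC := IsScalarTower.of_algebraMap_eq fun _ => rfl
    letI : Algebra k D.KB := ((algebraMap L D.KB).comp (algebraMap k L)).toAlgebra
    haveI : IsScalarTower k D.KB D.KC := IsScalarTower.of_algebraMap_eq fun c => by
      show algebraMap K' D.KC (algebraMap K K' (algebraMap k K c)) = algebraMap D.KB D.KC (algebraMap L D.KB (algebraMap k L c))
      rw [← IsScalarTower.algebraMap_apply k K K', IsScalarTower.algebraMap_apply k L K',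
        ← IsScalarTower.algebraMap_apply L D.KB D.KC, IsScalarTower.algebraMap_apply L K' D.KC]
    obtain ⟨B₀, -, ht, hfin, hrk⟩ := range_base (k := k) D.t D.transc D.finiteT
    haveI := isSeparable_compositum hK hL
    haveI : Algebra.IsSeparable K D.KC := Algebra.IsSeparable.trans K K' D.KC
    obtain ⟨e', he', h⟩ := (exists_sub B₀ D.t ht hfin hfg fun S => ⟨∅, by simp, by
      haveI : IsEmpty ((∅ : Finset D.KC) : Set D.KC) := ⟨fun x => absurd x.2 (by simp)⟩
      exact algebraicIndependent_empty_type_iff.2 (algebraMap K D.KC).injective, fun s _ =>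
        ((Algebra.IsSeparable.isSeparable K s).isIntegral.isAlgebraic).extendScalars
          (FaithfulSMul.algebraMap_injective K _)⟩).2 inferInstance
    exact ⟨e', he'.trans_eq (hrk.trans D.finrank_eq), h⟩
  apply le_antisymm
  all_goals
    unfold scvg
  · rcases Set.eq_empty_or_nonempty {e | ∃ D : CovDiag.{u} k K e, Algebra.IsSeparable K D.KC} with h | h
    · rw [h, Nat.sInf_empty]
      refine (Nat.sInf_eq_zero.2 (Or.inr (Set.eq_empty_of_forall_notMem fun e he => ?_))).le
      obtain ⟨e', -, he''⟩ := down e he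
      exact h.subset (show e' ∈ {e | ∃ D : CovDiag.{u} k K e, Algebra.IsSeparable K D.KC} from he'')
    · obtain ⟨e', hle, he'⟩ := up _ (Nat.sInf_mem h)
      exact (Nat.sInf_le he').trans hle
  · rcases Set.eq_empty_or_nonempty {e | ∃ D : CovDiag.{u} L K' e, Algebra.IsSeparable K' D.KC} with h | h
    · rw [h, Nat.sInf_empty]
      refine (Nat.sInf_eq_zero.2 (Or.inr (Set.eq_empty_of_forall_notMem fun e he => ?_))).le
      obtain ⟨e', -, he''⟩ := up e he
      exact h.subset (show e' ∈ {e | ∃ D : CovDiag.{u} L K' e, Algebra.IsSeparable K' D.KC} from he'')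
    · obtain ⟨e', hle, he'⟩ := down _ (Nat.sInf_mem h)
      exact (Nat.sInf_le he').trans hle

end Groth.Agent.H06Gon
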