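import Groth.Agent.H06Gon.Spec
import Groth.Agent.H06Gon.Sep

/-!
# Covering gonality under extension of the base field
-/

set_option autoImplicit false
set_option linter.style.haveILetI false
set_option linter.unusedSectionVars false
set_option maxHeartbeats 1000000
universe u

open TensorProduct W4c3irrattreebun Cardinal

namespace Groth.Agent.H06Gon

/-- A diagram without parameters gives a covering diagram. -/
theorem diag_of_sys_zero {k K : Type u} [Field k] [Field K] [Algebra k K] {e : ℕ} (h : Sys k K 0 e) :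
    ∃ e' ≤ e, Nonempty (CovDiag.{u} k K e') := by
  obtain ⟨M, instF, instK, instk, instT, T, B, t, -, hfinT, -, ht, hfin, hle⟩ := h
  haveI : Module.Finite K (IntermediateField.adjoin K (Set.range T)) := by
    haveI : Finite (Set.range T) := (Set.finite_range T).to_subtype
    exact IntermediateField.finiteDimensional_adjoin fun m hm => by
      obtain ⟨i, -⟩ := hm
      exact i.elim0
  haveI : Module.Finite K M := Module.Finite.trans (IntermediateField.adjoin K (Set.range T)) M
  obtain ⟨D, -⟩ := exists_diag (k := k) (K := K) B t ht hfin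
  exact ⟨_, hle, ⟨D⟩⟩

/-- All parameters may be specialised. -/
theorem diag_of_sys {k K : Type u} [Field k] [Field K] [Algebra k K] (hfg : (⊤ : IntermediateField k K).FG) {e : ℕ} :
    ∀ r, Sys k K r e → ∃ e' ≤ e, Nonempty (CovDiag.{u} k K e')
  | 0, h => diag_of_sys_zero h
  | r + 1, h => diag_of_sys hfg r (sys_step hfg h)

variable {k K L K' : Type u} [Field k] [Field K] [Field L] [Field K'] [Algebra k K] [Algebra k L]
  [Algebra (K ⊗[k] L) K'] [IsFractionRing (K ⊗[k] L) K'] [Algebra L K'] [Algebra K K'] [Algebra k K']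
  [IsScalarTower k K K'] [IsScalarTower k L K']
  (hK : ∀ x : K, algebraMap K K' x = algebraMap (K ⊗[k] L) K' (x ⊗ₜ[k] (1 : L)))
  (hL : ∀ x : L, algebraMap L K' x = algebraMap (K ⊗[k] L) K' ((1 : K) ⊗ₜ[k] x))

include hK hL in
/-- Finitely many elements of a finite extension of the compositum are algebraic over finitely many parameters. -/
theorem exists_parameters (C : Type u) [Field C] [Algebra K C] [Algebra K' C] [IsScalarTower K K' C]
    [Module.Finite K' C] (B₀ : Set C) (hB₀ : ∀ y : L, algebraMap K' C (algebraMap L K' y) ∈ B₀) (S : Finset C) :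
    ∃ T : Finset C, (T : Set C) ⊆ B₀ ∧ AlgebraicIndepOn K id (T : Set C) ∧
      ∀ s ∈ S, IsAlgebraic (IntermediateField.adjoin K (T : Set C)) s := by
  classical
  let U₀ : Set C := Set.range fun y : L => algebraMap K' C (algebraMap L K' y)
  have hmem : ∀ x : K', algebraMap K' C x ∈ IntermediateField.adjoin K U₀ := fun x => by
    refine map_mem_adjoin (k₁ := L) (k₂ := K) (F₂ := IntermediateField.adjoin K U₀) (algebraMap K' C) (fun y => IntermediateField.subset_adjoin K _ ⟨y, rfl⟩) ?_ x
      (generated hK hL x)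
    rintro _ ⟨c, rfl⟩
    rw [← IsScalarTower.algebraMap_apply]
    exact IntermediateField.algebraMap_mem _ c
  choose P hP hPm using fun x : K' => IntermediateField.exists_finset_of_mem_adjoin (hmem x)
  obtain ⟨mp, hmp0, hmp⟩ : ∃ mp : C → Polynomial K', (∀ s, mp s ≠ 0) ∧ ∀ s, Polynomial.aeval s (mp s) = 0 :=
    ⟨fun s => minpoly K' s, fun s => minpoly.ne_zero (Algebra.IsIntegral.isIntegral (R := K') s),
      fun s => minpoly.aeval K' s⟩
  obtain ⟨U, hU⟩ : ∃ U : Finset C, U = S.biUnion fun s => (mp s).support.biUnion fun i => P ((mp s).coeff i) :=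
    ⟨_, rfl⟩
  obtain ⟨T, hTU, hT, hTalg⟩ := exists_indep_subset K U
  refine ⟨T, fun c hc => ?_, hT, fun s hs => ?_⟩
  · have hc' := hTU hc
    rw [hU] at hc'
    obtain ⟨s, -, hc'⟩ := Finset.mem_biUnion.1 hc'
    obtain ⟨i, -, hc'⟩ := Finset.mem_biUnion.1 hc'
    obtain ⟨y, rfl⟩ := hP _ hc'
    exact hB₀ y
  let K₀ := IntermediateField.adjoin K (T : Set C)
  let C₀ := algebraicClosure K₀ C
  have hUC : IntermediateField.adjoin K (U : Set C) ≤ C₀.restrictScalars K :=
    IntermediateField.adjoin_le_iff.2 fun c hc => mem_algebraicClosure_iff.2 (hTalg c hc)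
  have hsub : ∀ i ∈ (mp s).support, (P ((mp s).coeff i) : Set C) ⊆ (U : Set C) := fun i hi c hc => by
    rw [hU]
    exact Finset.mem_biUnion.2 ⟨s, hs, Finset.mem_biUnion.2 ⟨i, hi, hc⟩⟩
  have hc : ∀ i, algebraMap K' C ((mp s).coeff i) ∈ C₀.restrictScalars K := fun i => by
    by_cases hi : i ∈ (mp s).support
    · have h1 := IntermediateField.adjoin.mono K _ _ (hsub i hi)
      exact hUC (h1 (hPm ((mp s).coeff i)))
    · rw [Polynomial.notMem_support_iff.1 hi, map_zero]
      exact zero_mem _
  obtain ⟨q, hq⟩ : ∃ q : Polynomial C₀, q.map (algebraMap C₀ C) = (mp s).map (algebraMap K' C) := by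
    refine (Polynomial.mem_lifts _).1 ((Polynomial.lifts_iff_coeff_lifts _).2 fun i => ?_)
    rw [Polynomial.coeff_map]
    exact ⟨⟨_, hc i⟩, rfl⟩
  have hsC : IsAlgebraic C₀ s := by
    refine ⟨q, fun h => hmp0 s ((Polynomial.map_eq_zero_iff (algebraMap K' C).injective).1 ?_), ?_⟩
    · rw [← hq, h, Polynomial.map_zero]
    · rw [Polynomial.aeval_def, Polynomial.eval₂_eq_eval_map, hq, ← Polynomial.eval₂_eq_eval_map,
        ← Polynomial.aeval_def, hmp]
  exact hsC.restrictScalars K₀

include hK hL in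
theorem cvg_baseChange (hfg : (⊤ : IntermediateField k K).FG) : cvg L K' = cvg k K := by
  classical
  obtain ⟨d, hd⟩ := exists_trdeg_eq_natCast hfg
  have up : ∀ e, Nonempty (CovDiag.{u} k K e) → ∃ e' ≤ e, Nonempty (CovDiag.{u} L K' e') := fun e ⟨D⟩ => by
    obtain ⟨e', he', D', -⟩ := base_change hK hL hd D
    exact ⟨e', he', ⟨D'⟩⟩
  have down : ∀ e, Nonempty (CovDiag.{u} L K' e) → ∃ e' ≤ e, Nonempty (CovDiag.{u} k K e') := fun e ⟨D⟩ => by
    letI : Algebra K D.KC := ((algebraMap K' D.KC).comp (algebraMap K K')).toAlgebra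
    haveI : IsScalarTower K K' D.KC := IsScalarTower.of_algebraMap_eq fun _ => rfl
    letI : Algebra k D.KC := ((algebraMap K D.KC).comp (algebraMap k K)).toAlgebra
    haveI : IsScalarTower k K D.KC := IsScalarTower.of_algebraMap_eq fun _ => rfl
    letI : Algebra k D.KB := ((algebraMap L D.KB).comp (algebraMap k L)).toAlgebra
    haveI : IsScalarTower k D.KB D.KC := IsScalarTower.of_algebraMap_eq fun c => by
      show algebraMap K' D.KC (algebraMap K K' (algebraMap k K c)) = algebraMap D.KB D.KC (algebraMap L D.KB (algebraMap k L c))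
      rw [← IsScalarTower.algebraMap_apply k K K', IsScalarTower.algebraMap_apply k L K',
        ← IsScalarTower.algebraMap_apply L D.KB D.KC, IsScalarTower.algebraMap_apply L K' D.KC]
    obtain ⟨B₀, hB₀, ht, hfin, hrk⟩ := range_base (k := k) D.t D.transc D.finiteT
    obtain ⟨r, hr⟩ := (exists_sub B₀ D.t ht hfin hfg
      (exists_parameters hK hL D.KC (B₀ : Set D.KC) fun y => by
        rw [← IsScalarTower.algebraMap_apply, IsScalarTower.algebraMap_apply L D.KB D.KC]
        exact hB₀ _)).1
    obtain ⟨e', he', h⟩ := diag_of_sys hfg r hr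
    exact ⟨e', he'.trans_eq (hrk.trans D.finrank_eq), h⟩
  apply le_antisymm
  all_goals
    unfold cvg
  · rcases Set.eq_empty_or_nonempty {e | Nonempty (CovDiag.{u} k K e)} with h | h
    · rw [h, Nat.sInf_empty]
      refine (Nat.sInf_eq_zero.2 (Or.inr (Set.eq_empty_of_forall_notMem fun e he => ?_))).le
      obtain ⟨e', -, he''⟩ := down e he
      exact h.subset (show e' ∈ {e | Nonempty (CovDiag.{u} k K e)} from he'')
    · obtain ⟨e', hle, he'⟩ := up _ (Nat.sInf_mem h)
      exact (Nat.sInf_le he').trans hle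
  · rcases Set.eq_empty_or_nonempty {e | Nonempty (CovDiag.{u} L K' e)} with h | h
    · rw [h, Nat.sInf_empty]
      refine (Nat.sInf_eq_zero.2 (Or.inr (Set.eq_empty_of_forall_notMem fun e he => ?_))).le
      obtain ⟨e', -, he''⟩ := up e he
      exact h.subset (show e' ∈ {e | Nonempty (CovDiag.{u} L K' e)} from he'')
    · obtain ⟨e', hle, he'⟩ := down _ (Nat.sInf_mem h)
      exact (Nat.sInf_le he').trans hle

end Groth.Agent.H06Gon
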