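import Groth.Agent.H06Gon.Trdeg
import Mathlib.RingTheory.Jacobson.Ring
import Mathlib.RingTheory.Algebraic.Integral
import Mathlib.RingTheory.IntegralClosure.IsIntegralClosure.Basic
import Mathlib.FieldTheory.IsAlgClosed.AlgebraicClosure

/-!
# Places of fields of transcendence degree one
-/

set_option autoImplicit false
set_option linter.style.haveILetI false
set_option linter.unusedSectionVars false
set_option maxHeartbeats 1000000
universe u

open Polynomial

namespace Groth.Agent.H06Gon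

/-- A polynomial over `k` of positive degree with no zero in common with a given one. -/
theorem exists_poly_avoid (k : Type u) [Field k] {K₁ : Type u} [Field K₁] [Algebra k K₁] (g : K₁[X]) (hg : g ≠ 0) :
    ∃ π : k[X], π ≠ 0 ∧ ∀ (n : ℕ) (p : K₁[X]), π.map (algebraMap k K₁) * p ≠ g ^ n := by
  classical
  let Ω := AlgebraicClosure K₁
  let g' := g.map (algebraMap K₁ Ω)
  have hg' : g' ≠ 0 := (Polynomial.map_ne_zero_iff (algebraMap K₁ Ω).injective).2 hg
  let s := g'.roots.toFinset.filter fun a => IsAlgebraic k a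
  let P : k[X] := ∏ a ∈ s, minpoly k a
  have hP : P ≠ 0 := Finset.prod_ne_zero_iff.2 fun a ha => minpoly.ne_zero (Finset.mem_filter.1 ha).2.isIntegral
  let π : k[X] := X * P + 1
  have hπ : π.natDegree ≠ 0 := by
    rw [Polynomial.natDegree_add_eq_left_of_natDegree_lt]
    · rw [Polynomial.natDegree_X_mul hP]; omega
    · rw [Polynomial.natDegree_X_mul hP, Polynomial.natDegree_one]; omega
  have hπ0 : π ≠ 0 := fun h => hπ (by rw [h, Polynomial.natDegree_zero])
  refine ⟨π, hπ0, fun n p h => ?_⟩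
  obtain ⟨a, ha⟩ := IsAlgClosed.exists_eval₂_eq_zero (algebraMap k Ω) π
    (fun hd => hπ (Polynomial.natDegree_eq_of_degree_eq_some hd))
  rw [← aeval_def] at ha
  have h1 : aeval a g = 0 := by
    have h2 := congrArg (aeval a) h
    rw [map_mul, aeval_map_algebraMap, ha, zero_mul, map_pow] at h2
    exact eq_zero_of_pow_eq_zero h2.symm
  have has : a ∈ s := Finset.mem_filter.2 ⟨Multiset.mem_toFinset.2 ((Polynomial.mem_roots hg').2 (by
    rw [IsRoot, Polynomial.eval_map, ← aeval_def]; exact h1)), π, hπ0, ha⟩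
  have hPa : aeval a P = 0 := by
    rw [map_prod]
    exact Finset.prod_eq_zero has (minpoly.aeval k a)
  simp [π, hPa] at ha

open scoped IntermediateField.algebraAdjoinAdjoin in
/-- A residue field of a finitely generated model of a field of transcendence degree one. -/
theorem exists_residue (k : Type u) [Field k] {K₁ M : Type u} [Field K₁] [Field M] [Algebra k K₁] [Algebra K₁ M]
    (x : M) (hx : Transcendental K₁ x)
    (halg : ∀ m : M, IsAlgebraic (IntermediateField.adjoin K₁ ({x} : Set M)) m) (F : Finset M) :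
    ∃ (R : Subalgebra K₁ M) (M' : Type u) (_ : Field M') (_ : Algebra K₁ M') (_ : Module.Finite K₁ M')
      (ψ : R →ₐ[K₁] M') (π : k[X]) (z : R),
      insert x (F : Set M) ⊆ R ∧ (z : M) = aeval x (π.map (algebraMap k K₁)) ∧ (z : M) ≠ 0 ∧ ψ z = 0 ∧
      ∀ E : IntermediateField K₁ M', (∀ y : R, (y : M) ∈ insert x (F : Set M) → ψ y ∈ E) → ∀ y, y ∈ E := by
  classical
  let A0 := Algebra.adjoin K₁ ({x} : Set M)
  haveI : Algebra.IsAlgebraic (IntermediateField.adjoin K₁ ({x} : Set M)) M := ⟨halg⟩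
  haveI : Algebra.IsAlgebraic A0 (IntermediateField.adjoin K₁ ({x} : Set M)) := inferInstance
  haveI : Algebra.IsAlgebraic A0 M :=
    Algebra.IsAlgebraic.trans A0 (IntermediateField.adjoin K₁ ({x} : Set M)) M
  obtain ⟨g, hg0, hint⟩ := Algebra.IsAlgebraic.exists_integral_multiples A0 (A := M) F
  obtain ⟨gp, hgp⟩ : ∃ p : K₁[X], aeval x p = (g : M) := by
    have h : (g : M) ∈ Algebra.adjoin K₁ ({x} : Set M) := g.2
    rwa [Algebra.adjoin_singleton_eq_range_aeval] at h
  have hgM : (g : M) ≠ 0 := fun h => hg0 (Subtype.ext h)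
  have hgp0 : gp ≠ 0 := fun h => hgM (by rw [← hgp, h, map_zero])
  let w : M := (g : M)⁻¹
  obtain ⟨π, hπ0, hπ⟩ := exists_poly_avoid k gp hgp0
  let A1 := Algebra.adjoin K₁ ({x, w} : Set M)
  have hA : A0 ≤ A1 := Algebra.adjoin_mono (by simp)
  letI : Algebra A0 A1 := (Subalgebra.inclusion hA).toRingHom.toAlgebra
  haveI : IsScalarTower A0 A1 M := IsScalarTower.of_algebraMap_eq fun _ => rfl
  let R := Algebra.adjoin K₁ (insert w (insert x (F : Set M)))
  have hxR : x ∈ R := Algebra.subset_adjoin (by simp)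
  have hFR : insert x (F : Set M) ⊆ R := fun m hm => Algebra.subset_adjoin (Set.mem_insert_of_mem _ hm)
  have hwA : w ∈ A1 := Algebra.subset_adjoin (by simp)
  have hxA : x ∈ A1 := Algebra.subset_adjoin (by simp)
  have hR : ∀ m ∈ R, IsIntegral A1 m := by
    intro m hm
    refine (Algebra.adjoin_le (S := (integralClosure A1 M).restrictScalars K₁) ?_) hm
    rintro y (rfl | rfl | hy)
    · exact isIntegral_algebraMap (x := (⟨w, hwA⟩ : A1))
    · exact isIntegral_algebraMap (x := (⟨y, hxA⟩ : A1))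
    · show IsIntegral A1 y
      have h1 : IsIntegral A1 (g • y) := (hint y hy).tower_top
      have h2 : y = w * (g • y) := by
        show y = (g : M)⁻¹ * ((g : M) * y)
        rw [inv_mul_cancel_left₀ hgM]
      rw [h2]
      exact (isIntegral_algebraMap (x := (⟨w, hwA⟩ : A1))).mul h1
  let u : M := aeval x (π.map (algebraMap k K₁))
  have huA : u ∈ A1 := Algebra.adjoin_mono (s := {x}) (by simp) (aeval_mem_adjoin_singleton K₁ x)
  have huR : u ∈ R := Algebra.adjoin_mono (s := {x}) (by simp) (aeval_mem_adjoin_singleton K₁ x)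
  have hu0 : u ≠ 0 := fun h => hx ⟨π.map (algebraMap k K₁),
    (Polynomial.map_ne_zero_iff (algebraMap k K₁).injective).2 hπ0, h⟩
  have hA1 : ∀ v ∈ A1, ∃ (n : ℕ) (p : K₁[X]), v * (g : M) ^ n = aeval x p := by
    intro v hv
    induction hv using Algebra.adjoin_induction with
    | mem v hv =>
      rcases hv with rfl | rfl
      · exact ⟨0, X, by simp⟩
      · exact ⟨1, 1, by simp [w, hgM]⟩
    | algebraMap c => exact ⟨0, C c, by simp⟩
    | add a b _ _ ha hb =>
      obtain ⟨m, p, hp⟩ := ha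
      obtain ⟨n, q, hq⟩ := hb
      refine ⟨m + n, p * gp ^ n + q * gp ^ m, ?_⟩
      rw [map_add, map_mul, map_mul, map_pow, map_pow, hgp, ← hp, ← hq, pow_add]
      ring
    | mul a b _ _ ha hb =>
      obtain ⟨m, p, hp⟩ := ha
      obtain ⟨n, q, hq⟩ := hb
      refine ⟨m + n, p * q, ?_⟩
      rw [map_mul, ← hp, ← hq, pow_add]
      ring
  have hnu : ¬ IsUnit (⟨u, huR⟩ : R) := by
    intro hun
    obtain ⟨v, hv⟩ := isUnit_iff_exists_inv.1 hun
    have hv' : u * (v : M) = 1 := congrArg Subtype.val hv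
    have hUB : IsUnit (algebraMap A1 (integralClosure A1 M) (⟨u, huA⟩ : A1)) :=
      IsUnit.of_mul_eq_one (⟨(v : M), hR _ v.2⟩ : integralClosure A1 M) (Subtype.ext hv')
    obtain ⟨v', hv2⟩ := isUnit_iff_exists_inv.1 ((isUnit_map_iff (algebraMap A1 (integralClosure A1 M)) _).1 hUB)
    have hv3 : u * (v' : M) = 1 := congrArg Subtype.val hv2
    obtain ⟨n, p, hp⟩ := hA1 _ v'.2
    refine hπ n p (transcendental_iff_injective.1 hx ?_)
    rw [map_mul, map_pow, hgp, ← hp, ← mul_assoc]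
    show u * (v' : M) * _ = _
    rw [hv3, one_mul]
  have hI : Ideal.span {(⟨u, huR⟩ : R)} ≠ ⊤ := fun h => hnu (Ideal.span_singleton_eq_top.1 h)
  obtain ⟨𝔪, hmax, hm⟩ := Ideal.exists_le_maximal _ hI
  letI : Field (R ⧸ 𝔪) := Ideal.Quotient.field 𝔪
  haveI : Algebra.FiniteType K₁ R := (Subalgebra.fg_iff_finiteType _).1
    (Subalgebra.fg_def.2 ⟨_, ((F.finite_toSet.insert x).insert w), rfl⟩)
  haveI : Algebra.FiniteType K₁ (R ⧸ 𝔪) :=
    Algebra.FiniteType.of_surjective (Ideal.Quotient.mkₐ K₁ 𝔪) Ideal.Quotient.mk_surjective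
  refine ⟨R, R ⧸ 𝔪, inferInstance, inferInstance, finite_of_finite_type_of_isJacobsonRing K₁ (R ⧸ 𝔪),
    Ideal.Quotient.mkₐ K₁ 𝔪, π, ⟨u, huR⟩, hFR, rfl, hu0,
    Ideal.Quotient.eq_zero_iff_mem.2 (hm (Ideal.mem_span_singleton_self _)), fun E hE y => ?_⟩
  let ψ := Ideal.Quotient.mkₐ K₁ 𝔪
  obtain ⟨y, rfl⟩ := Ideal.Quotient.mk_surjective y
  obtain ⟨m, hm'⟩ := y
  show ψ ⟨m, hm'⟩ ∈ E
  induction hm' using Algebra.adjoin_induction with
  | mem v hv =>
    rcases hv with rfl | hv
    · have hgR : (g : M) ∈ R := by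
        rw [← hgp]
        exact Algebra.adjoin_mono (s := {x}) (by simp) (aeval_mem_adjoin_singleton K₁ x)
      have h1 : ψ ⟨w, Algebra.subset_adjoin (by simp)⟩ * ψ ⟨(g : M), hgR⟩ = 1 := by
        rw [← map_mul, ← map_one ψ]
        exact congrArg ψ (Subtype.ext (inv_mul_cancel₀ hgM))
      rw [eq_inv_of_mul_eq_one_left h1]
      refine inv_mem ?_
      have h2 : (⟨(g : M), hgR⟩ : R) = aeval (⟨x, hxR⟩ : R) gp :=
        Subtype.ext (hgp.symm.trans (aeval_algHom_apply R.val (⟨x, hxR⟩ : R) gp))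
      rw [h2, ← aeval_algHom_apply]
      exact IntermediateField.algebra_adjoin_le_adjoin K₁ _ |>.trans
        (IntermediateField.adjoin_le_iff.2 (Set.singleton_subset_iff.2 (hE _ (Set.mem_insert _ _))))
        (aeval_mem_adjoin_singleton K₁ _)
    · exact hE _ hv
  | algebraMap c => exact (ψ.commutes c).symm ▸ E.algebraMap_mem c
  | add a b ha' hb' ha hb =>
    rw [show (⟨a + b, add_mem ha' hb'⟩ : R) = ⟨a, ha'⟩ + ⟨b, hb'⟩ from rfl, map_add]
    exact add_mem ha hb
  | mul a b ha' hb' ha hb =>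
    rw [show (⟨a * b, mul_mem ha' hb'⟩ : R) = ⟨a, ha'⟩ * ⟨b, hb'⟩ from rfl, map_mul]
    exact mul_mem ha hb

end Groth.Agent.H06Gon
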