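import Groth.Agent.H06Gon.Descend
import Groth.Agent.H06Gon.Residue

/-!
# Specialising one parameter
-/

set_option autoImplicit false
set_option linter.style.haveILetI false
set_option linter.unusedSectionVars false
set_option maxHeartbeats 1600000
universe u

open Polynomial Cardinal W4c3irrattreebun

namespace Groth.Agent.H06Gon

/-- An element killed by a map which is injective on a family is independent of the family. -/
theorem option_indep {k R M' : Type u} [Field k] [CommRing R] [IsDomain R] [CommRing M'] [Algebra k R] [Algebra k M']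
    (ψ : R →ₐ[k] M') {ι : Type u} (v : ι → R) (hv : AlgebraicIndependent k (fun i => ψ (v i))) (z : R)
    (hz : z ≠ 0) (hψz : ψ z = 0) : AlgebraicIndependent k (fun o : Option ι => o.elim z v) := by
  have hv' : AlgebraicIndependent k v := AlgebraicIndependent.of_comp ψ hv
  refine (hv'.option_iff_transcendental z).2 fun halg => ?_
  obtain ⟨r, hr0, hr⟩ := halg.exists_nonzero_dvd (mem_nonZeroDivisors_of_ne_zero hz)
  obtain ⟨c, hc⟩ := hr
  obtain ⟨p, hp⟩ : ∃ p, MvPolynomial.aeval v p = (r : R) := by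
    exact (SetLike.ext_iff.1 (Algebra.adjoin_range_eq_range_aeval k v) (r : R)).1 r.2
  have h1 : MvPolynomial.aeval (fun i => ψ (v i)) p = 0 := by
    rw [← MvPolynomial.comp_aeval_apply, hp, show (r : R) = z * c from hc, map_mul, hψz, zero_mul]
  have h2 : p = 0 := hv.eq_zero_of_aeval_eq_zero p h1
  exact hr0 (Subtype.ext (by rw [← hp, h2, map_zero]; rfl))

/-- Following polynomial expressions through a partially defined map. -/
theorem mem_of_adjoin {k K₁ M M' : Type u} [Field k] [Field K₁] [Field M] [Field M'] [Algebra k K₁] [Algebra K₁ M]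
    [Algebra k M] [IsScalarTower k K₁ M] [Algebra K₁ M'] [Algebra k M'] [IsScalarTower k K₁ M']
    {R : Subalgebra K₁ M} (ψ : R →ₐ[K₁] M') (E : Subfield M') (hk : ∀ c, algebraMap k M' c ∈ E) {P : Set M}
    (hP : ∀ m ∈ P, ∃ h : m ∈ R, ψ ⟨m, h⟩ ∈ E) :
    ∀ a ∈ Algebra.adjoin k P, ∃ h : a ∈ R, ψ ⟨a, h⟩ ∈ E := by
  intro a ha
  induction ha using Algebra.adjoin_induction with
  | mem m hm => exact hP m hm
  | algebraMap c =>
    refine ⟨by rw [IsScalarTower.algebraMap_apply k K₁ M]; exact R.algebraMap_mem _, ?_⟩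
    have : ∀ h, (⟨algebraMap k M c, h⟩ : R) = algebraMap K₁ R (algebraMap k K₁ c) :=
      fun h => Subtype.ext (IsScalarTower.algebraMap_apply k K₁ M c)
    rw [this, AlgHom.commutes, ← IsScalarTower.algebraMap_apply]
    exact hk c
  | add a b _ _ ha hb =>
    obtain ⟨ha, ha'⟩ := ha
    obtain ⟨hb, hb'⟩ := hb
    refine ⟨add_mem ha hb, ?_⟩
    rw [show (⟨a + b, add_mem ha hb⟩ : R) = ⟨a, ha⟩ + ⟨b, hb⟩ from rfl, map_add]
    exact add_mem ha' hb'
  | mul a b _ _ ha hb =>
    obtain ⟨ha, ha'⟩ := ha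
    obtain ⟨hb, hb'⟩ := hb
    refine ⟨mul_mem ha hb, ?_⟩
    rw [show (⟨a * b, mul_mem ha hb⟩ : R) = ⟨a, ha⟩ * ⟨b, hb⟩ from rfl, map_mul]
    exact mul_mem ha' hb'

/-- Coordinates of an element go through a partially defined map. -/
theorem span_transfer {k K₁ M M' : Type u} [Field k] [Field K₁] [Field M] [Field M'] [Algebra k K₁] [Algebra K₁ M]
    [Algebra K₁ M'] {R : Subalgebra K₁ M} (ψ : R →ₐ[K₁] M') {B : Type u} [Field B] [Algebra B M']
    {F : IntermediateField B M'} {n : ℕ} (b : Fin n → R) (c : Fin n → R) (hc : ∀ i, ψ (c i) ∈ F) (m : R)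
    (hm : (m : M) = ∑ i, (c i : M) * (b i : M)) : ψ m ∈ Submodule.span F (Set.range fun i => ψ (b i)) := by
  have h : m = ∑ i, c i * b i := Subtype.ext (by rw [hm, AddSubmonoidClass.coe_finsetSum]; rfl)
  rw [h, map_sum]
  refine sum_mem fun i _ => ?_
  rw [map_mul]
  exact Submodule.smul_mem _ (⟨ψ (c i), hc i⟩ : F) (Submodule.subset_span ⟨i, rfl⟩)

variable {k K : Type u} [Field k] [Field K] [Algebra k K]

open scoped IntermediateField.algebraAdjoinAdjoin in
/-- One parameter may be specialised without increasing the degree. -/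
theorem sys_step (hfg : (⊤ : IntermediateField k K).FG) {r e : ℕ} (h : Sys k K (r + 1) e) : Sys k K r e := by
  classical
  obtain ⟨M, instF, instK, instk, instT, T, B, t, hT, hfinT, hTB, ht, hfinF, hle⟩ := h
  obtain ⟨Y, hY⟩ := hfg
  let T₁ : Fin r → M := fun i => T i.castSucc
  let K₁ := IntermediateField.adjoin K (Set.range T₁)
  let x := T (Fin.last r)
  have hxB : x ∈ B := hTB ⟨_, rfl⟩
  haveI : IsScalarTower k K₁ M := IsScalarTower.of_algebraMap_eq fun c => rfl
  have hT₁K : ∀ i, T₁ i ∈ K₁ := fun i => IntermediateField.subset_adjoin K _ ⟨i, rfl⟩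
  have hx : Transcendental K₁ x := by
    have h1 := hT.transcendental_adjoin (s := Set.range (Fin.castSucc : Fin r → Fin (r + 1))) (i := Fin.last r)
      (by rintro ⟨j, hj⟩; exact (Fin.castSucc_lt_last j).ne hj)
    rw [← Set.range_comp] at h1
    intro halg
    refine h1 ?_
    haveI : Algebra.IsAlgebraic (Algebra.adjoin K (Set.range T₁)) K₁ := inferInstance
    exact halg.restrictScalars (Algebra.adjoin K (Set.range T₁))
  have halg : ∀ m : M, IsAlgebraic (IntermediateField.adjoin K₁ ({x} : Set M)) m := by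
    intro m
    have h1 : IsAlgebraic (IntermediateField.adjoin K (Set.range T)) m :=
      (Algebra.IsIntegral.isIntegral (R := IntermediateField.adjoin K (Set.range T)) m).isAlgebraic
    refine isAlgebraic_map (RingHom.id M) _ _ (map_mem_adjoin (k₁ := K) (RingHom.id M)
      (fun c => ?_) ?_) h1
    · show algebraMap K M c ∈ _
      rw [IsScalarTower.algebraMap_apply K K₁ M]
      exact IntermediateField.algebraMap_mem _ _
    · rintro _ ⟨i, rfl⟩
      refine Fin.lastCases ?_ (fun j => ?_) i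
      · exact IntermediateField.subset_adjoin K₁ _ rfl
      · exact IntermediateField.algebraMap_mem _ (⟨T₁ j, hT₁K j⟩ : K₁)
  let F := IntermediateField.adjoin B ({t} : Set M)
  let b := Module.finBasis F M
  let n := Module.finrank F M
  let coef : (Fin n × Fin n ⊕ (Y ⊕ PUnit.{u + 1})) → M := fun z => z.elim (fun ij => b ij.1 * b ij.2)
    (fun y => y.elim (fun y : Y => algebraMap K M (y : K)) (fun _ => 1))
  have hc : ∀ z i, ∃ (P : Finset M) (a q : M), (P : Set M) ⊆ (B : Set M) ∪ {t} ∧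
      a ∈ Algebra.adjoin k (P : Set M) ∧ q ∈ Algebra.adjoin k (P : Set M) ∧
      ((b.repr (coef z) i : F) : M) = a / q := by
    intro z i
    have h : ((b.repr (coef z) i : F) : M) ∈ IntermediateField.adjoin k ((B : Set M) ∪ {t}) := by
      rw [← IntermediateField.restrictScalars_adjoin]
      exact (b.repr (coef z) i).2
    obtain ⟨P, hP, hPm⟩ := IntermediateField.exists_finset_of_mem_adjoin h
    obtain ⟨a, ha, q, hq, he⟩ := IntermediateField.mem_adjoin_iff_div.1 hPm
    exact ⟨P, a, q, hP, ha, hq, he⟩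
  choose P a q hP ha hq heq using hc
  let PB : Finset M := Finset.univ.image T ∪
    ((Finset.univ : Finset (_ × Fin n)).biUnion fun zi => P zi.1 zi.2).filter fun c => c ∈ B
  have hPB : ∀ m ∈ PB, m ∈ B := by
    intro m hm
    rcases Finset.mem_union.1 hm with hm | hm
    · obtain ⟨i, -, rfl⟩ := Finset.mem_image.1 hm
      exact hTB ⟨i, rfl⟩
    · exact (Finset.mem_filter.1 hm).2
  have hPsub : ∀ z i, ∀ m ∈ P z i, m ∈ PB ∨ m = t := fun z i m hm => by
    rcases hP z i hm with h | h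
    · exact Or.inl (Finset.mem_union_right _
        (Finset.mem_filter.2 ⟨Finset.mem_biUnion.2 ⟨(z, i), Finset.mem_univ _, hm⟩, h⟩))
    · exact Or.inr h
  let Fs : Finset M := PB ∪ {t} ∪ Finset.univ.image b ∪
    (Finset.univ : Finset (_ × Fin n)).image (fun zi => (q zi.1 zi.2)⁻¹) ∪ Y.image (algebraMap K M)
  obtain ⟨R, M', _, _, _, ψ, π, z, hFR, hz, hz0, hψz, hgen⟩ := exists_residue k x hx halg Fs
  -- structures on the residue field
  letI : Algebra K M' := ((algebraMap K₁ M').comp (algebraMap K K₁)).toAlgebra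
  haveI : IsScalarTower K K₁ M' := IsScalarTower.of_algebraMap_eq fun _ => rfl
  letI : Algebra k M' := ((algebraMap K₁ M').comp (algebraMap k K₁)).toAlgebra
  haveI : IsScalarTower k K₁ M' := IsScalarTower.of_algebraMap_eq fun _ => rfl
  haveI : IsScalarTower k K M' := IsScalarTower.of_algebraMap_eq fun c => by
    show algebraMap K₁ M' (algebraMap k K₁ c) = algebraMap K₁ M' (algebraMap K K₁ (algebraMap k K c))
    exact congrArg _ (Subtype.ext (IsScalarTower.algebraMap_apply k K M c))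
  have memR : ∀ {m}, m ∈ Fs → m ∈ R := fun hm => hFR (Set.mem_insert_of_mem _ hm)
  have hPBs : ∀ {m}, m ∈ PB → m ∈ Fs := fun hm => by
    simp only [Fs, Finset.mem_union]; tauto
  have htF : t ∈ Fs := by simp [Fs]
  have hbF : ∀ i, b i ∈ Fs := fun i => by simp [Fs]
  have hqF : ∀ z i, (q z i)⁻¹ ∈ Fs := fun z i => by
    simp only [Fs, Finset.mem_union]
    exact Or.inl (Or.inr (Finset.mem_image.2 ⟨(z, i), Finset.mem_univ _, rfl⟩))
  have hyF : ∀ y ∈ Y, algebraMap K M y ∈ Fs := fun y hy => by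
    simp only [Fs, Finset.mem_union]
    exact Or.inr (Finset.mem_image_of_mem _ hy)
  let P' : Finset M' := PB.attach.image fun m => ψ ⟨m.1, memR (hPBs m.2)⟩
  let B' : IntermediateField k M' := IntermediateField.adjoin k (P' : Set M')
  have hB' : ∀ m (hm : m ∈ PB), ψ ⟨m, memR (hPBs hm)⟩ ∈ B' := fun m hm =>
    IntermediateField.subset_adjoin k _ (Finset.mem_image.2 ⟨⟨m, hm⟩, Finset.mem_attach _ _, rfl⟩)
  let t' : M' := ψ ⟨t, memR htF⟩
  let F' := IntermediateField.adjoin B' ({t'} : Set M')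
  have hkF : ∀ c, algebraMap k M' c ∈ F'.toSubfield := fun c =>
    F'.algebraMap_mem (⟨algebraMap k M' c, B'.algebraMap_mem c⟩ : B')
  have hPF : ∀ m, m ∈ PB ∨ m = t → ∃ h : m ∈ R, ψ ⟨m, h⟩ ∈ F'.toSubfield := by
    rintro m (hm | rfl)
    · exact ⟨memR (hPBs hm), F'.algebraMap_mem (⟨_, hB' m hm⟩ : B')⟩
    · exact ⟨memR htF, IntermediateField.subset_adjoin B' _ rfl⟩
  have haq : ∀ z i, ∀ c ∈ Algebra.adjoin k (P z i : Set M), ∃ h : c ∈ R, ψ ⟨c, h⟩ ∈ F'.toSubfield :=
    fun z i => mem_of_adjoin ψ _ hkF fun m hm => hPF m (hPsub z i m hm)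
  have hqinv : ∀ z i, ψ ⟨(q z i)⁻¹, memR (hqF z i)⟩ ∈ F' := fun z i => by
    obtain ⟨hqR, hqF'⟩ := haq z i _ (hq z i)
    by_cases h0 : q z i = 0
    · rw [show (⟨(q z i)⁻¹, memR (hqF z i)⟩ : R) = 0 from Subtype.ext (by simp [h0]), map_zero]
      exact zero_mem _
    · have h1 : ψ ⟨(q z i)⁻¹, memR (hqF z i)⟩ * ψ ⟨q z i, hqR⟩ = 1 := by
        rw [← map_mul, ← map_one ψ]
        exact congrArg ψ (Subtype.ext (inv_mul_cancel₀ h0))
      rw [eq_inv_of_mul_eq_one_left h1]
      exact inv_mem hqF'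
  let b' : Fin n → R := fun i => ⟨b i, memR (hbF i)⟩
  have hcR : ∀ z i, a z i / q z i ∈ R := fun z i => by
    rw [div_eq_mul_inv]; exact mul_mem (haq z i _ (ha z i)).1 (memR (hqF z i))
  have hcF : ∀ z i, ψ ⟨a z i / q z i, hcR z i⟩ ∈ F' := fun z i => by
    rw [show (⟨a z i / q z i, hcR z i⟩ : R) = ⟨a z i, (haq z i _ (ha z i)).1⟩ * ⟨(q z i)⁻¹, memR (hqF z i)⟩ from
      Subtype.ext (div_eq_mul_inv _ _), map_mul]
    exact mul_mem (haq z i _ (ha z i)).2 (hqinv z i)
  have hspan : ∀ z (m : R), (m : M) = coef z → ψ m ∈ Submodule.span F' (Set.range fun i => ψ (b' i)) := by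
    intro z m hm
    refine span_transfer (k := k) ψ b' (fun i => ⟨a z i / q z i, hcR z i⟩) (hcF z) m ?_
    rw [hm]
    conv_lhs => rw [← b.sum_repr (coef z)]
    refine Finset.sum_congr rfl fun i _ => ?_
    rw [IntermediateField.smul_def, smul_eq_mul, heq]
  have hone : (1 : M') ∈ Submodule.span F' (Set.range fun i => ψ (b' i)) := by
    rw [← map_one ψ]; exact hspan (Sum.inr (Sum.inr PUnit.unit)) 1 rfl
  have hFspan : ∀ m ∈ F', m ∈ Submodule.span F' (Set.range fun i => ψ (b' i)) := fun m hm => by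
    simpa [IntermediateField.smul_def] using Submodule.smul_mem _ (⟨m, hm⟩ : F') hone
  let G : Set M' := ψ '' {y : R | (y : M) ∈ Fs}
  have hTFs : ∀ i, T i ∈ PB := fun i => Finset.mem_union_left _ (Finset.mem_image.2 ⟨i, Finset.mem_univ i, rfl⟩)
  have hT₁c : ∀ j, algebraMap K₁ M' (⟨T₁ j, hT₁K j⟩ : K₁) = ψ ⟨T₁ j, memR (hPBs (hTFs _))⟩ := fun j =>
    (ψ.commutes (⟨T₁ j, hT₁K j⟩ : K₁)).symm.trans (congrArg ψ (Subtype.ext rfl))
  have hK₁ : ∀ (E : Subfield M'), (∀ c : K, algebraMap K M' c ∈ E) →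
      (∀ j, algebraMap K₁ M' (⟨T₁ j, hT₁K j⟩ : K₁) ∈ E) → ∀ c : K₁, algebraMap K₁ M' c ∈ E := by
    intro E hE hEj c
    obtain ⟨c, hc⟩ := c
    induction hc using IntermediateField.adjoin_induction with
    | mem m hm => obtain ⟨j, rfl⟩ := hm; exact hEj j
    | algebraMap c => exact hE c
    | add u v hu hv h1 h2 =>
      rw [show (⟨u + v, add_mem hu hv⟩ : K₁) = ⟨u, hu⟩ + ⟨v, hv⟩ from rfl, map_add]
      exact add_mem h1 h2
    | inv u hu h1 =>
      rw [show (⟨u⁻¹, inv_mem hu⟩ : K₁) = (⟨u, hu⟩ : K₁)⁻¹ from rfl, map_inv₀]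
      exact inv_mem h1
    | mul u v hu hv h1 h2 =>
      rw [show (⟨u * v, mul_mem hu hv⟩ : K₁) = ⟨u, hu⟩ * ⟨v, hv⟩ from rfl, map_mul]
      exact mul_mem h1 h2
  have hgenG : ∀ y : M', y ∈ IntermediateField.adjoin F' G := by
    let E₂ := IntermediateField.adjoin F' G
    have hKE : ∀ c : K, algebraMap K M' c ∈ E₂.toSubfield := by
      intro c
      refine map_mem_adjoin (k₁ := k) (algebraMap K M')
        (fun a => by
          rw [← IsScalarTower.algebraMap_apply]
          exact E₂.algebraMap_mem (⟨algebraMap k M' a, hkF a⟩ : F'))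
        (fun y hy => IntermediateField.subset_adjoin F' _
          (show algebraMap K M' y ∈ G from ⟨⟨algebraMap K M y, memR (hyF y hy)⟩, hyF y hy, ?_⟩))
        c (by rw [hY]; exact IntermediateField.mem_top)
      refine ((congrArg ψ (Subtype.ext ?_)).trans (ψ.commutes (algebraMap K K₁ y)))
      exact (IsScalarTower.algebraMap_apply K K₁ M y)
    have hK₁E := hK₁ E₂.toSubfield hKE fun j => by
      rw [hT₁c j]; exact IntermediateField.subset_adjoin F' _ ⟨_, hPBs (hTFs _), rfl⟩
    intro y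
    refine hgen (E₂.toSubfield.toIntermediateField hK₁E) (fun y hy => ?_) y
    have hyF : (y : M) ∈ Fs := by
      rcases hy with hy | hy
      · rw [hy]; exact hPBs (hTFs _)
      · exact hy
    exact IntermediateField.subset_adjoin F' _ ⟨y, hyF, rfl⟩
  have hGspan : G ⊆ Submodule.span F' (Set.range fun i => ψ (b' i)) := by
    rintro _ ⟨⟨m, hm⟩, hy, rfl⟩
    have hy' : m ∈ Fs := hy
    simp only [Fs, Finset.mem_union, Finset.mem_singleton, Finset.mem_image] at hy'
    rcases hy' with (((hy' | rfl) | ⟨i, -, rfl⟩) | ⟨⟨z, i⟩, -, rfl⟩) | ⟨y, hyY, rfl⟩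
    · exact hFspan _ (F'.algebraMap_mem (⟨_, hB' m hy'⟩ : B'))
    · exact hFspan _ (IntermediateField.subset_adjoin B' _ rfl)
    · exact Submodule.subset_span ⟨i, rfl⟩
    · exact hFspan _ (hqinv z i)
    · exact hspan (Sum.inr (Sum.inl ⟨y, hyY⟩)) _ rfl
  obtain ⟨hf, hrk⟩ := finrank_le_of_span (fun i => ψ (b' i)) hone
    (fun i j => by rw [← map_mul]; exact hspan (Sum.inl (i, j)) _ rfl) G hGspan hgenG
  rw [Fintype.card_fin] at hrk
  -- transcendence of the coordinate
  have htr : Transcendental B' t' := by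
    intro halgt
    haveI := hf
    haveI : Algebra.IsAlgebraic F' M' := Algebra.IsAlgebraic.of_finite F' M'
    haveI : Algebra.IsAlgebraic B' F' := IntermediateField.isAlgebraic_adjoin (by rintro _ rfl; exact halgt.isIntegral)
    haveI : Algebra.IsAlgebraic B' M' := Algebra.IsAlgebraic.trans B' F' M'
    obtain ⟨T₀, hT₀P, hT₀, hT₀alg⟩ := exists_indep_subset k P'
    let K₀ := IntermediateField.adjoin k (T₀ : Set M')
    let C₀ := algebraicClosure K₀ M'
    have hB'C : B' ≤ C₀.restrictScalars k := IntermediateField.adjoin_le_iff.2 fun s hs =>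
      mem_algebraicClosure_iff.2 (hT₀alg s hs)
    have hM'alg : ∀ y : M', IsAlgebraic K₀ y := fun y => by
      have h1 : IsAlgebraic C₀ y := isAlgebraic_map (RingHom.id M') B' C₀ (fun s hs => hB'C hs)
        (Algebra.IsAlgebraic.isAlgebraic y)
      exact h1.restrictScalars K₀
    have h1 : Algebra.trdeg k M' ≤ #(T₀ : Set M') := trdeg_le_mk_of_generates _ hM'alg
    rw [trdeg_eq_of_isAlgebraic K₁] at h1
    have hlift : ∀ i : (T₀ : Set M'), ∃ m : R, (m : M) ∈ B ∧ ψ m = i := by
      rintro ⟨i, hi⟩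
      obtain ⟨⟨m, hm⟩, -, hmi⟩ := Finset.mem_image.1 (hT₀P hi)
      exact ⟨⟨m, memR (hPBs hm)⟩, hPB m hm, hmi⟩
    choose v hvB hvψ using hlift
    have hind : AlgebraicIndependent k (fun o : Option (T₀ : Set M') => o.elim z v) := by
      refine option_indep (ψ.restrictScalars k) v ?_ z (fun h => hz0 (by rw [h]; rfl)) hψz
      have : (fun i => (ψ.restrictScalars k) (v i)) = fun i : (T₀ : Set M') => (i : M') := funext hvψ
      rw [this]
      exact hT₀
    have hzB : (z : M) ∈ B := by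
      rw [hz, aeval_map_algebraMap]
      exact (show aeval x π = ((aeval (⟨x, hxB⟩ : B) π : B) : M) from aeval_algHom_apply B.val (⟨x, hxB⟩ : B) π) ▸
        (aeval (⟨x, hxB⟩ : B) π).2
    let wB : Option (T₀ : Set M') → B := fun o => o.elim ⟨(z : M), hzB⟩ (fun i => ⟨(v i : M), hvB i⟩)
    have hwB : AlgebraicIndependent k wB := by
      refine AlgebraicIndependent.of_comp B.val ?_
      have h2 := hind.map' (f := R.val.restrictScalars k) Subtype.val_injective
      convert h2 using 1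
      funext o
      cases o <;> rfl
    have h2 := hwB.cardinalMk_le_trdeg
    rw [Cardinal.mk_option, Cardinal.mk_fintype] at h2
    rw [Cardinal.mk_fintype] at h1
    have h3 := trdeg_add_one_le B ht
    have h4 : Algebra.trdeg k M ≤ Algebra.trdeg k K₁ + 1 := by
      rw [← trdeg_add_eq k K₁ (A := M)]
      gcongr
      simpa using trdeg_le_mk_of_generates ({x} : Set M) halg
    have h5 : ((Fintype.card (T₀ : Set M') : ℕ) : Cardinal.{u}) + 1 + 1 ≤ (Fintype.card (T₀ : Set M') : ℕ) + 1 :=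
      calc _ ≤ Algebra.trdeg k B + 1 := by gcongr
        _ ≤ Algebra.trdeg k M := h3
        _ ≤ Algebra.trdeg k K₁ + 1 := h4
        _ ≤ _ := by gcongr
    norm_cast at h5
    omega
  let T₂ : Fin r → M' := fun j => algebraMap K₁ M' (⟨T₁ j, hT₁K j⟩ : K₁)
  refine ⟨M', inferInstance, inferInstance, inferInstance, inferInstance, T₂, B', t', ?_, ?_, ?_, htr, hf,
    hrk.trans hle⟩
  · have h1 : AlgebraicIndependent K (fun j => (⟨T₁ j, hT₁K j⟩ : K₁)) :=
      AlgebraicIndependent.of_comp K₁.val (hT.comp _ (Fin.castSucc_injective r))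
    exact h1.map' (f := IsScalarTower.toAlgHom K K₁ M') (algebraMap K₁ M').injective
  · let K₂ := IntermediateField.adjoin K (Set.range T₂)
    have hK₂ : ∀ c : K₁, algebraMap K₁ M' c ∈ K₂.toSubfield :=
      hK₁ K₂.toSubfield (fun c => K₂.algebraMap_mem c) fun j => IntermediateField.subset_adjoin K _ ⟨j, rfl⟩
    letI : Algebra K₁ K₂ := ((algebraMap K₁ M').codRestrict K₂ hK₂).toAlgebra
    haveI : IsScalarTower K₁ K₂ M' := IsScalarTower.of_algebraMap_eq fun _ => rfl
    exact Module.Finite.of_restrictScalars_finite K₁ K₂ M'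
  · rintro _ ⟨j, rfl⟩
    show algebraMap K₁ M' _ ∈ B'
    rw [hT₁c]
    exact hB' _ (hTFs _)

end Groth.Agent.H06Gon
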