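import Mathlib.RingTheory.AlgebraicIndependent.TranscendenceBasis
import Mathlib.RingTheory.AlgebraicIndependent.Transcendental
import Mathlib.RingTheory.AlgebraicIndependent.Adjoin
import Mathlib.FieldTheory.AlgebraicClosure
import Mathlib.FieldTheory.IntermediateField.Adjoin.Algebra
import Mathlib.FieldTheory.IntermediateField.Adjoin.Basic

/-!
# Transcendence degree bookkeeping
-/

set_option autoImplicit false
set_option linter.style.haveILetI false
universe u

open Cardinal

namespace Groth.Agent.H06Gon

variable {k M : Type u} [Field k] [Field M] [Algebra k M]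

/-- The transcendence degree does not change under algebraic extensions. -/
theorem trdeg_eq_of_isAlgebraic (B : Type u) [Field B] [Algebra k B] [Algebra B M] [IsScalarTower k B M]
    [Algebra.IsAlgebraic B M] : Algebra.trdeg k M = Algebra.trdeg k B := by
  rw [← trdeg_add_eq k B (A := M), (trdeg_eq_zero : Algebra.trdeg B M = 0), add_zero]

/-- A field generated by elements algebraic over a subfield is algebraic over it. -/
theorem isAlgebraic_of_generates {F : Type u} [Field F] [Algebra F M] (G : Set M)
    (halg : ∀ g ∈ G, IsAlgebraic F g) (hgen : ∀ x : M, x ∈ IntermediateField.adjoin F G) :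
    Algebra.IsAlgebraic F M := by
  haveI := IntermediateField.isAlgebraic_adjoin (K := F) (S := G) fun g hg => (halg g hg).isIntegral
  exact ⟨fun x => (Algebra.IsAlgebraic.isAlgebraic (R := F) (⟨x, hgen x⟩ : IntermediateField.adjoin F G)).algebraMap⟩

open scoped IntermediateField.algebraAdjoinAdjoin in
/-- A finite set contains an independent part over which the rest is algebraic. -/
theorem exists_indep_subset (K : Type u) {M : Type u} [Field K] [Field M] [Algebra K M] (S : Finset M) :
    ∃ T ⊆ S, AlgebraicIndepOn K id (T : Set M) ∧
      ∀ s ∈ S, IsAlgebraic (IntermediateField.adjoin K (T : Set M)) s := by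
  classical
  induction S using Finset.induction with
  | empty =>
    haveI : IsEmpty ((∅ : Finset M) : Set M) := ⟨fun x => absurd x.2 (by simp)⟩
    exact ⟨∅, subset_rfl, algebraicIndependent_empty_type_iff.2 (algebraMap K M).injective, by simp⟩
  | insert s S hs ih =>
    obtain ⟨T, hTS, hT, halg⟩ := ih
    by_cases h : IsAlgebraic (IntermediateField.adjoin K (T : Set M)) s
    · refine ⟨T, hTS.trans (Finset.subset_insert _ _), hT, fun x hx => ?_⟩
      rcases Finset.mem_insert.1 hx with rfl | hx
      · exact h
      · exact halg x hx
    · refine ⟨insert s T, Finset.insert_subset_insert _ hTS, ?_, fun x hx => ?_⟩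
      · rw [Finset.coe_insert]
        refine (AlgebraicIndepOn.insert_iff (show s ∉ (T : Set M) from fun hs' =>
          h (isAlgebraic_algebraMap (⟨s, IntermediateField.subset_adjoin K _ hs'⟩ : IntermediateField.adjoin K (T : Set M))))).2
          ⟨hT, fun ha => h ?_⟩
        rw [id, Set.image_id] at ha
        exact ha.extendScalars (R := Algebra.adjoin K (T : Set M)) (S := IntermediateField.adjoin K (T : Set M))
          (FaithfulSMul.algebraMap_injective _ _)
      · rcases Finset.mem_insert.1 hx with rfl | hx
        · exact isAlgebraic_algebraMap (⟨x, IntermediateField.subset_adjoin K _ (by simp)⟩ :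
            IntermediateField.adjoin K ((insert x T : Finset M) : Set M))
        · have hle : IntermediateField.adjoin K (T : Set M) ≤ IntermediateField.adjoin K ((insert s T : Finset M) : Set M) :=
            IntermediateField.adjoin.mono K _ _ (by simp)
          letI : Algebra (IntermediateField.adjoin K (T : Set M)) (IntermediateField.adjoin K ((insert s T : Finset M) : Set M)) :=
            (IntermediateField.inclusion hle).toAlgebra
          haveI : IsScalarTower (IntermediateField.adjoin K (T : Set M))
              (IntermediateField.adjoin K ((insert s T : Finset M) : Set M)) M :=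
            IsScalarTower.of_algebraMap_eq fun _ => rfl
          exact (halg x hx).extendScalars (RingHom.injective _)

open scoped IntermediateField.algebraAdjoinAdjoin in
/-- The transcendence degree of a field generated by a set. -/
theorem trdeg_le_mk_of_generates (G : Set M)
    (halg : ∀ x : M, IsAlgebraic (IntermediateField.adjoin k G) x) : Algebra.trdeg k M ≤ #G := by
  haveI : Algebra.IsAlgebraic (IntermediateField.adjoin k G) M := ⟨halg⟩
  haveI : Algebra.IsAlgebraic (Algebra.adjoin k G) (IntermediateField.adjoin k G) := inferInstance
  haveI : Algebra.IsAlgebraic (Algebra.adjoin k G) M :=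
    Algebra.IsAlgebraic.trans (Algebra.adjoin k G) (IntermediateField.adjoin k G) M
  exact Algebra.IsAlgebraic.trdeg_le_cardinalMk k G

/-- Finitely generated fields have finite transcendence degree. -/
theorem exists_trdeg_eq_natCast {K : Type u} [Field K] [Algebra k K] (hfg : (⊤ : IntermediateField k K).FG) :
    ∃ d : ℕ, Algebra.trdeg k K = d := by
  obtain ⟨S, hS⟩ := hfg
  refine Cardinal.lt_aleph0.1 ((trdeg_le_mk_of_generates (S : Set K) fun x => ?_).trans_lt (Cardinal.mk_lt_aleph0 (α := S)))
  exact isAlgebraic_algebraMap (⟨x, by rw [hS]; trivial⟩ : IntermediateField.adjoin k (S : Set K))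

/-- Transcendence degree of a subfield with a transcendental element above it. -/
theorem trdeg_add_one_le (B : IntermediateField k M) {t : M} (ht : Transcendental B t) :
    Algebra.trdeg k B + 1 ≤ Algebra.trdeg k M := by
  rw [← trdeg_add_eq k B (A := M)]
  gcongr
  have h : AlgebraicIndependent B (fun _ : PUnit.{u + 1} => t) := algebraicIndependent_unique_type_iff.2 ht
  simpa using h.cardinalMk_le_trdeg

end Groth.Agent.H06Gon
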