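import Groth.Agent.H06Gon.Trdeg
import Groth.Agent.H06Gon.Diag
import Mathlib.RingTheory.Flat.Basic
import Mathlib.RingTheory.TensorProduct.MvPolynomial
import Mathlib.RingTheory.Localization.FractionRing
import Mathlib.FieldTheory.SeparableClosure
import Mathlib.RingTheory.Ideal.Quotient.Operations

/-!
# Extension of the base field does not increase covering gonality
-/

set_option autoImplicit false
set_option linter.style.haveILetI false
set_option linter.unusedSectionVars false
set_option maxHeartbeats 1000000
universe u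

open TensorProduct W4c3irrattreebun Cardinal

namespace Groth.Agent.H06Gon

/-- Ring homomorphisms respect generated subfields. -/
theorem map_mem_adjoin {k₁ M₁ k₂ M₂ : Type u} [Field k₁] [Field M₁] [Algebra k₁ M₁] [Field k₂] [Field M₂]
    [Algebra k₂ M₂] (ι : M₁ →+* M₂) {S₁ : Set M₁} {F₂ : IntermediateField k₂ M₂}
    (hk : ∀ c, ι (algebraMap k₁ M₁ c) ∈ F₂) (hS : ∀ x ∈ S₁, ι x ∈ F₂) :
    ∀ x ∈ IntermediateField.adjoin k₁ S₁, ι x ∈ F₂ := by
  intro x hx
  induction hx using IntermediateField.adjoin_induction with
  | mem x hx => exact hS x hx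
  | algebraMap c => exact hk c
  | add x y _ _ h1 h2 => rw [map_add]; exact add_mem h1 h2
  | inv x _ h => rw [map_inv₀]; exact inv_mem h
  | mul x y _ _ h1 h2 => rw [map_mul]; exact mul_mem h1 h2

/-- Ring homomorphisms respect algebraicity over subfields. -/
theorem isAlgebraic_map {k₁ M₁ k₂ M₂ : Type u} [Field k₁] [Field M₁] [Algebra k₁ M₁] [Field k₂] [Field M₂]
    [Algebra k₂ M₂] (ι : M₁ →+* M₂) (F₁ : IntermediateField k₁ M₁) (F₂ : IntermediateField k₂ M₂)
    (h : ∀ x ∈ F₁, ι x ∈ F₂) {x : M₁} (hx : IsAlgebraic F₁ x) : IsAlgebraic F₂ (ι x) := by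
  let j : F₁ →+* F₂ := (ι.comp F₁.val.toRingHom).codRestrict F₂ fun y => h y.1 y.2
  exact hx.ringHom_of_comp_eq (f := j) (g := ι) j.injective rfl

/-- Generation over a smaller base gives generation over a bigger one. -/
theorem mem_adjoin_top {k₁ M₁ : Type u} [Field k₁] [Field M₁] [Algebra k₁ M₁] {F : IntermediateField k₁ M₁}
    {S : Set M₁} {x : M₁} (hx : x ∈ IntermediateField.adjoin k₁ S) : x ∈ IntermediateField.adjoin F S := by
  have h : IntermediateField.adjoin k₁ S ≤ (IntermediateField.adjoin F S).restrictScalars k₁ :=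
    IntermediateField.adjoin_le_iff.2 fun y hy => IntermediateField.subset_adjoin F S hy
  exact h hx

/-- Generation over the bottom gives generation over an intermediate tower. -/
theorem mem_adjoin_top' {k₁ k₂ M₁ : Type u} [Field k₁] [Field k₂] [Field M₁] [Algebra k₁ k₂] [Algebra k₁ M₁]
    [Algebra k₂ M₁] [IsScalarTower k₁ k₂ M₁] {S : Set M₁} {x : M₁} (hx : x ∈ IntermediateField.adjoin k₁ S) :
    x ∈ IntermediateField.adjoin k₂ S := by
  have h : IntermediateField.adjoin k₁ S ≤ (IntermediateField.adjoin k₂ S).restrictScalars k₁ :=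
    IntermediateField.adjoin_le_iff.2 fun y hy => IntermediateField.subset_adjoin k₂ S hy
  exact h hx

variable {k K L K' : Type u} [Field k] [Field K] [Field L] [Field K'] [Algebra k K] [Algebra k L]
  [Algebra (K ⊗[k] L) K'] [IsFractionRing (K ⊗[k] L) K'] [Algebra L K'] [Algebra K K'] [Algebra k K']
  [IsScalarTower k K K'] [IsScalarTower k L K']
  (hK : ∀ x : K, algebraMap K K' x = algebraMap (K ⊗[k] L) K' (x ⊗ₜ[k] (1 : L)))
  (hL : ∀ x : L, algebraMap L K' x = algebraMap (K ⊗[k] L) K' ((1 : K) ⊗ₜ[k] x))

include hK hL in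
theorem algebraMap_tmul (x : K) (y : L) :
    algebraMap (K ⊗[k] L) K' (x ⊗ₜ[k] y) = algebraMap K K' x * algebraMap L K' y := by
  rw [hK, hL, ← map_mul, Algebra.TensorProduct.tmul_mul_tmul, mul_one, one_mul]

include hK hL in
/-- The compositum field is generated by `K` and `L`. -/
theorem generated (x : K') : x ∈ IntermediateField.adjoin L (Set.range (algebraMap K K')) := by
  obtain ⟨a, b, -, rfl⟩ := IsFractionRing.div_surjective (K ⊗[k] L) x
  have h : ∀ a : K ⊗[k] L, algebraMap _ K' a ∈ IntermediateField.adjoin L (Set.range (algebraMap K K')) := by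
    intro a
    induction a using TensorProduct.induction_on with
    | zero => rw [map_zero]; exact zero_mem _
    | add a b ha hb => rw [map_add]; exact add_mem ha hb
    | tmul x y =>
      rw [algebraMap_tmul hK hL]
      exact mul_mem (IntermediateField.subset_adjoin L _ ⟨x, rfl⟩) (IntermediateField.algebraMap_mem _ y)
  exact div_mem (h a) (h b)

include hK hL in
/-- An independent family of `K/k` stays independent over `L`. -/
theorem indep_baseChange {ι : Type u} {s : ι → K} (hs : AlgebraicIndependent k s) :
    AlgebraicIndependent L (fun i => algebraMap K K' (s i)) := by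
  rw [algebraicIndependent_iff_injective_aeval]
  have h1 : Function.Injective (LinearMap.lTensor L (MvPolynomial.aeval s : MvPolynomial ι k →ₐ[k] K).toLinearMap) :=
    Module.Flat.lTensor_preserves_injective_linearMap (M := L) _ hs
  let ev : L ⊗[k] K →ₐ[k] K' :=
    Algebra.TensorProduct.lift (IsScalarTower.toAlgHom k L K') (IsScalarTower.toAlgHom k K K') fun _ _ => Commute.all _ _
  have hev : ∀ z : L ⊗[k] K, ev z = algebraMap (K ⊗[k] L) K' (TensorProduct.comm k L K z) := by
    intro z
    induction z using TensorProduct.induction_on with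
    | zero => simp
    | add a b ha hb => rw [map_add, map_add, map_add, ha, hb]
    | tmul y x =>
      rw [TensorProduct.comm_tmul, algebraMap_tmul hK hL, mul_comm]
      rfl
  have h2 : Function.Injective ev := fun a b h => by
    rw [hev, hev] at h
    exact (TensorProduct.comm k L K).injective (IsFractionRing.injective (K ⊗[k] L) K' h)
  let e := MvPolynomial.algebraTensorAlgEquiv (R := k) (A := L) (σ := ι)
  have key : ∀ P : L ⊗[k] MvPolynomial ι k, MvPolynomial.aeval (fun i => algebraMap K K' (s i)) (e P) =
      ev (LinearMap.lTensor L (MvPolynomial.aeval s : MvPolynomial ι k →ₐ[k] K).toLinearMap P) := by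
    intro P
    induction P using TensorProduct.induction_on with
    | zero => simp
    | add a b ha hb => rw [map_add, map_add, map_add, map_add, ha, hb]
    | tmul y q =>
      rw [MvPolynomial.algebraTensorAlgEquiv_tmul, LinearMap.lTensor_tmul, map_smul, Algebra.smul_def,
        MvPolynomial.aeval_map_algebraMap]
      show _ = algebraMap L K' y * algebraMap K K' (MvPolynomial.aeval s q)
      exact congrArg _ (DFunLike.congr_fun (MvPolynomial.comp_aeval s (IsScalarTower.toAlgHom k K K')) q).symm
  intro P Q h
  obtain ⟨P, rfl⟩ := e.surjective P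
  obtain ⟨Q, rfl⟩ := e.surjective Q
  rw [key, key] at h
  rw [h1 (h2 h)]

include hK hL in
/-- The transcendence degree is unchanged. -/
theorem trdeg_baseChange : Algebra.trdeg L K' = Algebra.trdeg k K := by
  obtain ⟨s, hs⟩ := exists_isTranscendenceBasis k K
  have hi := indep_baseChange hK hL hs.1
  rw [← hs.cardinalMk_eq_trdeg]
  refine le_antisymm ?_ hi.cardinalMk_le_trdeg
  refine (trdeg_le_mk_of_generates (Set.range fun i : s => algebraMap K K' (i : K)) fun x => ?_).trans mk_range_le
  haveI : Algebra.IsAlgebraic (IntermediateField.adjoin L (Set.range fun i : s => algebraMap K K' (i : K))) K' := by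
    haveI := hs.isAlgebraic_field
    refine isAlgebraic_of_generates (Set.range (algebraMap K K')) ?_ fun y => ?_
    · rintro _ ⟨x, rfl⟩
      exact isAlgebraic_map (algebraMap K K') (IntermediateField.adjoin k (Set.range (Subtype.val : s → K))) _
        (map_mem_adjoin _ (fun c => by
          rw [← IsScalarTower.algebraMap_apply, IsScalarTower.algebraMap_apply k L K']
          exact IntermediateField.algebraMap_mem _ _)
          (by rintro _ ⟨i, rfl⟩; exact IntermediateField.subset_adjoin L _ ⟨i, rfl⟩))
        (Algebra.IsAlgebraic.isAlgebraic x)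
    · exact mem_adjoin_top (generated hK hL y)
  exact Algebra.IsAlgebraic.isAlgebraic x

omit [Algebra k K] [Algebra k L] [Algebra (K ⊗[k] L) K'] [IsFractionRing (K ⊗[k] L) K'] [Algebra L K'] [Algebra k K']
  [IsScalarTower k K K'] [IsScalarTower k L K'] in
/-- A compositum of two extensions of a field. -/
theorem exists_compositum (C : Type u) [Field C] [Algebra K C] [Module.Finite K C] :
    ∃ (M : Type u) (_ : Field M) (_ : Algebra K' M) (_ : Module.Finite K' M) (ι : C →+* M),
      (∀ x : K, ι (algebraMap K C x) = algebraMap K' M (algebraMap K K' x)) ∧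
      ∀ x : M, x ∈ IntermediateField.adjoin K' (Set.range ι) := by
  haveI : Nontrivial (K' ⊗[K] C) :=
    (Algebra.TensorProduct.includeLeft_injective (S := K) (A := K') (B := C) (algebraMap K C).injective).nontrivial
  obtain ⟨𝔪, h𝔪⟩ := Ideal.exists_maximal (K' ⊗[K] C)
  let _ : Field ((K' ⊗[K] C) ⧸ 𝔪) := Ideal.Quotient.field 𝔪
  refine ⟨(K' ⊗[K] C) ⧸ 𝔪, inferInstance, inferInstance,
    Module.Finite.of_surjective (Ideal.Quotient.mkₐ K' 𝔪).toLinearMap Ideal.Quotient.mk_surjective,
    (Ideal.Quotient.mk 𝔪).comp (Algebra.TensorProduct.includeRight : C →ₐ[K] K' ⊗[K] C).toRingHom,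
    fun x => ?_, fun x => ?_⟩
  · show Ideal.Quotient.mk 𝔪 ((1 : K') ⊗ₜ[K] algebraMap K C x) =
      Ideal.Quotient.mk 𝔪 (algebraMap K K' x ⊗ₜ[K] (1 : C))
    rw [Algebra.algebraMap_eq_smul_one, Algebra.algebraMap_eq_smul_one, TensorProduct.smul_tmul]
  · obtain ⟨x, rfl⟩ := Ideal.Quotient.mk_surjective x
    induction x using TensorProduct.induction_on with
    | zero => rw [map_zero]; exact zero_mem _
    | add a b ha hb => rw [map_add]; exact add_mem ha hb
    | tmul y z =>
      rw [show y ⊗ₜ[K] z = (y ⊗ₜ[K] (1 : C)) * ((1 : K') ⊗ₜ[K] z) by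
        rw [Algebra.TensorProduct.tmul_mul_tmul, mul_one, one_mul], map_mul]
      exact mul_mem (IntermediateField.algebraMap_mem _ y) (IntermediateField.subset_adjoin K' _ ⟨z, rfl⟩)

include hK hL in
/-- A diagram extends to the bigger base. -/
theorem base_change {e d : ℕ} (hd : Algebra.trdeg k K = d) (D : CovDiag.{u} k K e) :
    ∃ e' ≤ e, ∃ D' : CovDiag.{u} L K' e', Algebra.IsSeparable K D.KC → Algebra.IsSeparable K' D'.KC := by
  classical
  obtain ⟨M, _, _, _, ι, hιK, hgen₀⟩ := exists_compositum (K := K) (K' := K') D.KC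
  letI : Algebra L M := ((algebraMap K' M).comp (algebraMap L K')).toAlgebra
  haveI : IsScalarTower L K' M := IsScalarTower.of_algebraMap_eq fun _ => rfl
  let B : IntermediateField L M := IntermediateField.adjoin L (Set.range fun b : D.KB => ι (algebraMap D.KB D.KC b))
  let F := IntermediateField.adjoin B ({ι D.t} : Set M)
  let F₀ := IntermediateField.adjoin D.KB ({D.t} : Set D.KC)
  have hF₀ : ∀ x ∈ F₀, ι x ∈ F := map_mem_adjoin ι
    (fun c => IntermediateField.algebraMap_mem F (⟨_, IntermediateField.subset_adjoin L _ ⟨c, rfl⟩⟩ : B))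
    (by rintro _ rfl; exact IntermediateField.subset_adjoin B _ rfl)
  haveI := D.finiteT
  let b := Module.finBasis F₀ D.KC
  have hspan : ∀ y : D.KC, ι y ∈ Submodule.span F (Set.range fun i => ι (b i)) := by
    intro y
    rw [← b.sum_repr y, map_sum]
    refine sum_mem fun i _ => ?_
    rw [IntermediateField.smul_def, smul_eq_mul, map_mul]
    exact Submodule.smul_mem _ (⟨ι ((b.repr y i : F₀) : D.KC), hF₀ _ (b.repr y i).2⟩ : F) (Submodule.subset_span ⟨i, rfl⟩)
  have hgen : ∀ x : M, x ∈ IntermediateField.adjoin L (Set.range ι) := by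
    intro x
    have hK' : ∀ y : K', algebraMap K' M y ∈ IntermediateField.adjoin L (Set.range ι) := by
      intro y
      refine map_mem_adjoin (k₁ := L) (algebraMap K' M) (fun c => IntermediateField.algebraMap_mem _ c) ?_ y (generated hK hL y)
      rintro _ ⟨z, rfl⟩
      rw [← hιK]
      exact IntermediateField.subset_adjoin L _ ⟨_, rfl⟩
    have hx := hgen₀ x
    induction hx using IntermediateField.adjoin_induction with
    | mem x hx => exact IntermediateField.subset_adjoin L _ hx
    | algebraMap c => exact hK' c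
    | add x y _ _ h1 h2 => exact add_mem h1 h2
    | inv x _ h => exact inv_mem h
    | mul x y _ _ h1 h2 => exact mul_mem h1 h2
  have hgenF : ∀ x : M, x ∈ IntermediateField.adjoin F (Set.range ι) := fun x =>
    mem_adjoin_top (F := F) (mem_adjoin_top (F := B) (hgen x))
  obtain ⟨hfin, hle⟩ := finrank_le_of_span (fun i => ι (b i)) (by simpa using hspan 1)
    (fun i j => by rw [← map_mul]; exact hspan _) (Set.range ι) (by rintro _ ⟨y, rfl⟩; exact hspan y) hgenF
  haveI := hfin
  haveI : Algebra.IsAlgebraic F M := Algebra.IsAlgebraic.of_finite F M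
  have ht : Transcendental B (ι D.t) := by
    intro halg
    haveI : Algebra.IsAlgebraic B F := IntermediateField.isAlgebraic_adjoin (by rintro _ rfl; exact halg.isIntegral)
    haveI : Algebra.IsAlgebraic B M := Algebra.IsAlgebraic.trans B F M
    have h1 : Algebra.trdeg L M = Algebra.trdeg L B := trdeg_eq_of_isAlgebraic B
    rw [trdeg_eq_of_isAlgebraic K', trdeg_baseChange hK hL, hd] at h1
    obtain ⟨s, hs⟩ := exists_isTranscendenceBasis k D.KB
    have h2 : Algebra.trdeg L B ≤ Algebra.trdeg k D.KB := by
      rw [← hs.cardinalMk_eq_trdeg]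
      let φ : s → B := fun i => ⟨ι (algebraMap D.KB D.KC i), IntermediateField.subset_adjoin L _ ⟨_, rfl⟩⟩
      refine (trdeg_le_mk_of_generates (Set.range φ) fun x => ?_).trans mk_range_le
      haveI := hs.isAlgebraic_field
      haveI : Algebra.IsAlgebraic (IntermediateField.adjoin L (Set.range φ)) B := by
        let j : D.KB →+* B := (ι.comp (algebraMap D.KB D.KC)).codRestrict B fun x =>
          IntermediateField.subset_adjoin L _ ⟨x, rfl⟩
        refine isAlgebraic_of_generates (Set.range j) ?_ fun y => ?_
        · rintro _ ⟨x, rfl⟩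
          refine isAlgebraic_map j (IntermediateField.adjoin k (Set.range (Subtype.val : s → D.KB))) _
            (map_mem_adjoin _ (fun c => ?_) (by rintro _ ⟨i, rfl⟩; exact IntermediateField.subset_adjoin L _ ⟨i, rfl⟩))
            (Algebra.IsAlgebraic.isAlgebraic x)
          have : j (algebraMap k D.KB c) = algebraMap L B (algebraMap k L c) := Subtype.ext (by
            show ι (algebraMap D.KB D.KC (algebraMap k D.KB c)) = algebraMap K' M (algebraMap L K' (algebraMap k L c))
            rw [← IsScalarTower.algebraMap_apply, IsScalarTower.algebraMap_apply k K D.KC, hιK,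
              ← IsScalarTower.algebraMap_apply k K K', ← IsScalarTower.algebraMap_apply k L K'])
          rw [this]
          exact IntermediateField.algebraMap_mem _ _
        · refine mem_adjoin_top ?_
          have hy : (y : M) ∈ (IntermediateField.adjoin L (Set.range j)).map B.val := by
            refine (IntermediateField.adjoin_le_iff.2 ?_) y.2
            rintro _ ⟨c, rfl⟩
            exact ⟨j c, IntermediateField.subset_adjoin L _ ⟨c, rfl⟩, rfl⟩
          obtain ⟨z, hz, hzy⟩ := hy
          rwa [← Subtype.ext hzy]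
      exact Algebra.IsAlgebraic.isAlgebraic x
    have h3 : Algebra.trdeg k D.KB + 1 ≤ (d : Cardinal) := by
      rw [← hd]
      refine le_trans ?_ (trdeg_eq_of_isAlgebraic (k := k) (M := D.KC) K).le
      rw [← trdeg_add_eq k D.KB (A := D.KC)]
      gcongr
      have hi : AlgebraicIndependent D.KB (fun _ : PUnit.{u + 1} => D.t) :=
        algebraicIndependent_unique_type_iff.2 D.transc
      simpa using hi.cardinalMk_le_trdeg
    have h4 : Algebra.trdeg k D.KB < ℵ₀ := lt_of_le_of_lt (le_trans (self_le_add_right _ _) h3) (natCast_lt_aleph0 (n := d))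
    obtain ⟨c, hc⟩ := lt_aleph0.1 h4
    rw [hc, ← Nat.cast_one, ← Nat.cast_add, Nat.cast_le] at h3
    rw [← h1, hc, Nat.cast_le] at h2
    omega
  obtain ⟨D', hD'⟩ := exists_diag (k := L) (K := K') B (ι D.t) ht hfin
  refine ⟨_, hle.trans_eq ((Fintype.card_fin _).trans D.finrank_eq), D', fun hsep => hD' ?_⟩
  constructor
  intro x
  have hx : x ∈ IntermediateField.adjoin K' (Set.range ι) := mem_adjoin_top' (hgen x)
  haveI : Algebra.IsSeparable K' (IntermediateField.adjoin K' (Set.range ι)) :=
    (IntermediateField.isSeparable_adjoin_iff_isSeparable K' M).2 ?_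
  exact mem_separableClosure_iff.1 (le_separableClosure K' M _ hx)
  exact (by
    rintro _ ⟨y, rfl⟩
    have h := Polynomial.Separable.map (Algebra.IsSeparable.isSeparable K y) (f := algebraMap K K')
    refine h.of_dvd (minpoly.dvd _ _ ?_)
    rw [Polynomial.aeval_def, Polynomial.eval₂_map, ← show ι.comp (algebraMap K D.KC) = (algebraMap K' M).comp (algebraMap K K')
      from RingHom.ext hιK, ← Polynomial.hom_eval₂, ← Polynomial.aeval_def, minpoly.aeval, map_zero])

end Groth.Agent.H06Gon
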